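import Cfsg.Agent.H98.Transvection

set_option autoImplicit false

/-!
Generalities for proving that stabilisers of subspaces are maximal subgroups.
-/

namespace Cfsg.Agent.H98

open scoped Matrix

variable {ι : Type} [Fintype ι] [DecidableEq ι] {F : Type*} [Field F]

/-- Multiplication by an invertible matrix is injective. -/
theorem gl_mulVec_injective (g : GL ι F) :
    Function.Injective (fun v : ι → F => (g : Matrix ι ι F) *ᵥ v) :=
  Matrix.mulVec_injective_of_isUnit g.isUnit

theorem gl_inv_mulVec (g : GL ι F) (v : ι → F) :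
    ((g⁻¹ : GL ι F) : Matrix ι ι F) *ᵥ ((g : Matrix ι ι F) *ᵥ v) = v := by
  rw [Matrix.mulVec_mulVec, ← Units.val_mul, inv_mul_cancel, Units.val_one, Matrix.one_mulVec]

theorem gl_mulVec_inv (g : GL ι F) (v : ι → F) :
    (g : Matrix ι ι F) *ᵥ (((g⁻¹ : GL ι F) : Matrix ι ι F) *ᵥ v) = v := by
  rw [Matrix.mulVec_mulVec, ← Units.val_mul, mul_inv_cancel, Units.val_one, Matrix.one_mulVec]

/-- Matrices are determined by their action on vectors. -/
theorem gl_ext {g h : GL ι F} (he : ∀ v, (g : Matrix ι ι F) *ᵥ v = (h : Matrix ι ι F) *ᵥ v) : g = h :=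
  Units.ext (Matrix.ext_of_mulVec_single fun _ => he _)

/-- An element mapping `W` into itself stabilises it. -/
theorem stab_of_maps_into {W : Submodule F (ι → F)} {g : GL ι F}
    (h : ∀ w ∈ W, (g : Matrix ι ι F) *ᵥ w ∈ W) : g ∈ Cfsg.Geo.subspaceStabilizer W := by
  rw [mem_subspaceStabilizer]
  intro v
  refine ⟨h v, fun hv => ?_⟩
  set L := Matrix.toLin' (g : Matrix ι ι F) with hL
  have hmap : W.map L ≤ W := by
    rintro _ ⟨w, hw, rfl⟩
    simpa [hL] using h w hw
  have hinj : Function.Injective L := by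
    intro a b hab
    exact gl_mulVec_injective g (by simpa [hL] using hab)
  have heq : W.map L = W := Submodule.eq_of_le_of_finrank_eq hmap
    (Submodule.equivMapOfInjective L hinj W).finrank_eq.symm
  obtain ⟨w, hw, hwv⟩ : (g : Matrix ι ι F) *ᵥ v ∈ W.map L := heq.symm ▸ hv
  have : w = v := gl_mulVec_injective g (by simpa [hL] using hwv)
  exact this ▸ hw

/-- An element outside the stabiliser moves some vector of `W` out of `W`. -/
theorem exists_moved_out {W : Submodule F (ι → F)} {g : GL ι F}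
    (hg : g ∉ Cfsg.Geo.subspaceStabilizer W) : ∃ w ∈ W, (g : Matrix ι ι F) *ᵥ w ∉ W := by
  by_contra hc
  push Not at hc
  exact hg (stab_of_maps_into hc)

/-- The shape of every maximality proof: a proper subgroup such that adjoining anything generates. -/
theorem isMaximalIn_of {G : Type*} [Group G] {K H : Subgroup G} (hle : H ≤ K) (hne : ∃ x ∈ K, x ∉ H)
    (h : ∀ M : Subgroup G, H ≤ M → M ≤ K → ∀ g ∈ M, g ∉ H → K ≤ M) : Cfsg.Geo.IsMaximalIn K H := by
  obtain ⟨x, hx, hxH⟩ := hne
  refine ⟨lt_of_le_not_ge hle fun hKH => hxH (hKH hx), fun M hHM hMK => ?_⟩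
  by_cases hM : M ≤ H
  · exact Or.inl (le_antisymm hM hHM)
  · obtain ⟨g, hg, hgH⟩ := SetLike.not_le_iff_exists.mp hM
    exact Or.inr (le_antisymm hMK (h M hHM hMK g hg hgH))

/-- Conjugating a transvection. -/
theorem conj_transGL (g : GL ι F) (φ : (ι → F) →ₗ[F] F) (a : ι → F) (h : φ a = 0) :
    g * transGL φ a h * g⁻¹ =
      transGL (φ.comp (Matrix.mulVecLin ((g⁻¹ : GL ι F) : Matrix ι ι F))) ((g : Matrix ι ι F) *ᵥ a)
        (by simpa [gl_inv_mulVec] using h) := by
  refine gl_ext fun v => ?_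
  simp only [Units.val_mul, ← Matrix.mulVec_mulVec, transGL_mulVec, Matrix.mulVec_add, Matrix.mulVec_smul,
    gl_mulVec_inv, LinearMap.comp_apply, Matrix.mulVecLin_apply]

end Cfsg.Agent.H98
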