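import Cfsg.Agent.H98.OrthSubScalar

set_option autoImplicit false
set_option linter.unusedSectionVars false

/-!
A totally singular line of root elements orthogonal to a rational singular vector is rational; the criterion for an
element of an overgroup to be rational up to a scalar.
-/

namespace Cfsg.Agent.H98.OSub

open Cfsg.Agent.H5 QuadraticMap

variable {ι : Type} [Fintype ι] [DecidableEq ι] {F : Type*} [Field F] [Finite F]

local notation "V" => (ι → F)

variable {q : QuadraticForm F (ι → F)} {F₀ : Subfield F} {r : ℕ}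

/-- The plane spanned by two vectors is spanned by rational vectors. -/
def RatPlane (F₀ : Subfield F) (v w : ι → F) : Prop :=
  ∃ a b, IsRatVec F₀ a ∧ IsRatVec F₀ b ∧ v ∈ Submodule.span F ({a, b} : Set (ι → F)) ∧
    w ∈ Submodule.span F ({a, b} : Set (ι → F)) ∧ a ∈ Submodule.span F ({v, w} : Set (ι → F)) ∧
    b ∈ Submodule.span F ({v, w} : Set (ι → F))

theorem eich_line_apply {v w : ι → F} (hvv : q v = 0) (hww : q w = 0) (hvw : polar q v w = 0) (x : ι → F) :
    (eich q v w : (ι → F) ≃ₗ[F] (ι → F)) x = x + polar q v x • w - polar q w x • v := by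
  rw [eich_apply hvv hvw, hww, zero_mul, zero_smul, sub_zero]

variable (H : OR q F₀ r) {M : Subgroup (orth q)} (hM : Over F₀ M) (hns : NoNew F₀ M)
include H hM hns

/-- A line of root elements orthogonal to a rational singular vector is rational. -/
theorem OR.line_rat {v w z : V} (hvv : q v = 0) (hww : q w = 0) (hvw : polar q v w = 0)
    (hind : ∀ s t : F, s • v + t • w = 0 → s = 0 ∧ t = 0) (hm : RootIn M v w) (hz : IsRatVec F₀ z) (hz0 : z ≠ 0)
    (hzz : q z = 0) (hzv : polar q z v = 0) (hzw : polar q z w = 0) : RatPlane F₀ v w := by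
  have hvz : polar q v z = 0 := by rw [polar_comm, hzv]
  have hwz : polar q w z = 0 := by rw [polar_comm, hzw]
  have hsz : (eich q v w : V ≃ₗ[F] V) z = z := by rw [eich_line_apply hvv hww hvw, hvz, hwz]; simp
  -- minors on rational vectors orthogonal to `z` are rational
  have hmin : ∀ x y, IsRatVec F₀ x → IsRatVec F₀ y → polar q z x = 0 → polar q z y = 0 →
      polar q v x * polar q w y - polar q w x * polar q v y ∈ F₀ := by
    intro x y hx hy hzx hzy
    have h1 := (H.rootIn_rat hM hz hx hzz hzx).conj hm.2.2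
    rw [hsz] at h1
    have h2 := sub_mem (H.param hM hns hz hz0 h1 hy hzy) (H.polar_rat hy hx)
    rw [eich_line_apply hvv hww hvw, polar_sub_right, polar_add_right, polar_smul_right, polar_smul_right,
      smul_eq_mul, smul_eq_mul, polar_comm q y w, polar_comm q y v] at h2
    convert h2 using 1; ring
  obtain ⟨z', hz', hp⟩ := H.partner₁ hz hzz hz0
  -- rational modulo `z`
  have hmod : ∀ u : V, polar q z u = 0 → (∀ x, IsRatVec F₀ x → polar q z x = 0 → polar q u x ∈ F₀) →
      IsRatVec F₀ (u - polar q z' u • z) := by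
    intro u hzu hu
    refine H.rat_of_polar fun y hy => ?_
    have h1 := hu (y - polar q z y • z') (isRat_sub hy (isRat_smul (H.polar_rat hz hy) hz'))
      (by rw [polar_sub_right, polar_smul_right, hp.pair, smul_eq_mul, mul_one, sub_self])
    rw [polar_sub_right, polar_smul_right, smul_eq_mul, polar_comm q u y, polar_comm q u z'] at h1
    rw [polar_sub_right, polar_smul_right, smul_eq_mul, polar_comm q y z]
    convert h1 using 1; ring
  by_cases hD : ∃ x y, IsRatVec F₀ x ∧ IsRatVec F₀ y ∧ polar q z x = 0 ∧ polar q z y = 0 ∧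
      polar q v x * polar q w y - polar q w x * polar q v y ≠ 0
  · obtain ⟨x₁, x₂, hx₁, hx₂, hz₁, hz₂, hD⟩ := hD
    have hDF := hmin x₁ x₂ hx₁ hx₂ hz₁ hz₂
    set D := polar q v x₁ * polar q w x₂ - polar q w x₁ * polar q v x₂ with hDdef
    set v' := D⁻¹ • (polar q w x₂ • v - polar q v x₂ • w) with hv'
    set w' := D⁻¹ • (polar q v x₁ • w - polar q w x₁ • v) with hw'
    have hv'x : ∀ x, polar q v' x = D⁻¹ * (polar q w x₂ * polar q v x - polar q v x₂ * polar q w x) := fun x => by
      rw [hv', polar_smul_left, polar_sub_left, polar_smul_left, polar_smul_left]; rfl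
    have hw'x : ∀ x, polar q w' x = D⁻¹ * (polar q v x₁ * polar q w x - polar q w x₁ * polar q v x) := fun x => by
      rw [hw', polar_smul_left, polar_sub_left, polar_smul_left, polar_smul_left]; rfl
    clear_value v' w'
    have hzv' : polar q z v' = 0 := by rw [polar_comm, hv'x, hvz, hwz]; ring
    have hzw' : polar q z w' = 0 := by rw [polar_comm, hw'x, hvz, hwz]; ring
    have hr1 := hmod v' hzv' fun x hx hzx => by
      rw [hv'x]
      refine mul_mem (inv_mem hDF) ?_
      convert hmin x x₂ hx hx₂ hzx hz₂ using 1; ring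
    have hr2 := hmod w' hzw' fun x hx hzx => by
      rw [hw'x]
      refine mul_mem (inv_mem hDF) ?_
      convert hmin x₁ x hx₁ hx hz₁ hzx using 1
    have hvex : v = polar q v x₁ • v' + polar q v x₂ • w' := by
      rw [hv', hw', smul_smul, smul_smul]
      match_scalars <;> field_simp <;> rw [hDdef] <;> ring
    have hwex : w = polar q w x₁ • v' + polar q w x₂ • w' := by
      rw [hv', hw', smul_smul, smul_smul]
      match_scalars <;> field_simp <;> rw [hDdef] <;> ring
    set α := polar q z' v' with hα
    set β := polar q z' w' with hβ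
    set p := v' - α • z with hpdef
    set p' := w' - β • z with hp'def
    have hv'p : v' = p + α • z := by rw [hpdef, sub_add_cancel]
    have hw'p : w' = p' + β • z := by rw [hp'def, sub_add_cancel]
    clear_value α β p p'
    have qv' : q v' = 0 := by
      rw [hv', QuadraticMap.map_smul, Cfsg.Agent.H5.map_sub', QuadraticMap.map_smul, QuadraticMap.map_smul, polar_smul_left,
        polar_smul_right, hvv, hww, hvw]
      simp
    have qw' : q w' = 0 := by
      rw [hw', QuadraticMap.map_smul, Cfsg.Agent.H5.map_sub', QuadraticMap.map_smul, QuadraticMap.map_smul, polar_smul_left,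
        polar_smul_right, hvv, hww, polar_comm q w v, hvw]
      simp
    have qvw' : polar q v' w' = 0 := by
      rw [hv'x, hw', polar_smul_right, polar_smul_right, polar_sub_right, polar_sub_right, polar_smul_right,
        polar_smul_right, polar_smul_right, polar_smul_right, hvw, polar_comm q w v, hvw, polar_self', hvv,
        polar_self', hww]
      simp
    have hzp : polar q z p = 0 := by
      rw [hpdef, polar_sub_right, polar_smul_right, hzv', polar_self', hzz]; simp
    have hzp' : polar q z p' = 0 := by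
      rw [hp'def, polar_sub_right, polar_smul_right, hzw', polar_self', hzz]; simp
    have qp : q p = 0 := by
      rw [hpdef, map_sub_smul, qv', hzz, polar_comm q v' z, hzv']; simp
    have qp' : q p' = 0 := by
      rw [hp'def, map_sub_smul, qw', hzz, polar_comm q w' z, hzw']; simp
    have qpp' : polar q p p' = 0 := by
      rw [hpdef, hp'def, polar_sub_left, polar_sub_right, polar_sub_right, polar_smul_left, polar_smul_left,
        polar_smul_right, polar_smul_right, qvw', polar_comm q v' z, hzv', hzw', polar_self', hzz]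
      simp
    set X := D • (α • p' - β • p) with hX
    clear_value X
    have hXz : polar q z X = 0 := by
      rw [hX, polar_smul_right, polar_sub_right, polar_smul_right, polar_smul_right, hzp, hzp']; simp
    have qX : q X = 0 := by
      rw [hX, QuadraticMap.map_smul, Cfsg.Agent.H5.map_sub', QuadraticMap.map_smul, QuadraticMap.map_smul, polar_smul_left,
        polar_smul_right, qp, qp', polar_comm q p' p, qpp']
      simp
    have hpp'' : polar q p (D • p') = 0 := by rw [polar_smul_right, qpp', smul_zero]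
    have hsplit : eich q v w = eich q p (D • p') * eich q z X := orth_ext fun x => by
      rw [orth_mul_apply, eich_line_apply hvv hww hvw,
        eich_line_apply qp (by rw [QuadraticMap.map_smul, qp', smul_zero]) hpp'', eich_line_apply hzz qX hXz]
      have e1 : polar q p X = 0 := by
        rw [hX, polar_smul_right, polar_sub_right, polar_smul_right, polar_smul_right, qpp', polar_self', qp]; simp
      have e2 : polar q p' X = 0 := by
        rw [hX, polar_smul_right, polar_sub_right, polar_smul_right, polar_smul_right, polar_comm q p' p, qpp',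
          polar_self', qp']
        simp
      simp only [polar_smul_left, polar_add_right, polar_sub_right, polar_smul_right, e1, e2,
        polar_comm q p z, hzp, polar_comm q p' z, hzp']
      rw [hvex, hwex, hv'p, hw'p, hX]
      simp only [polar_add_left, polar_smul_left, polar_sub_left, smul_eq_mul]
      rw [hDdef]
      module
    have hXM : RootIn M z X := by
      refine ⟨hzz, hXz, ?_⟩
      have h1 := hM _ (H.eich_comm_mem p (D • p')) (H.ratMap_eich hr1 (isRat_smul hDF hr2))
      have h2 := hm.2.2
      rw [hsplit] at h2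
      exact (Subgroup.mul_mem_cancel_left M h1).mp h2
    have ev1 : polar q v' x₁ = 1 := by
      rw [hv'x, show polar q w x₂ * polar q v x₁ - polar q v x₂ * polar q w x₁ = D by rw [hDdef]; ring,
        inv_mul_cancel₀ hD]
    have ev2 : polar q v' x₂ = 0 := by rw [hv'x]; ring
    have ew1 : polar q w' x₁ = 0 := by rw [hw'x]; ring
    have ew2 : polar q w' x₂ = 1 := by rw [hw'x, ← hDdef, inv_mul_cancel₀ hD]
    have hpar : ∀ x, IsRatVec F₀ x → polar q z x = 0 →
        D * (α * polar q w' x - β * polar q v' x) ∈ F₀ := fun x hx hzx => by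
      have h1 := H.param hM hns hz hz0 hXM hx hzx
      rw [hX, hpdef, hp'def, polar_smul_right, polar_sub_right, polar_smul_right, polar_smul_right, polar_sub_right,
        polar_sub_right, polar_smul_right, polar_smul_right, polar_comm q x w', polar_comm q x v',
        polar_comm q x z, hzx] at h1
      simpa using h1
    have hβF : β ∈ F₀ := by
      have := mul_mem (neg_mem (inv_mem hDF)) (hpar x₁ hx₁ hz₁)
      rw [ev1, ew1] at this
      convert this using 1; field_simp; ring
    have hαF : α ∈ F₀ := by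
      have := mul_mem (inv_mem hDF) (hpar x₂ hx₂ hz₂)
      rw [ev2, ew2] at this
      convert this using 1; field_simp; ring
    refine ⟨v', w', hv'p ▸ isRat_add hr1 (isRat_smul hαF hz), hw'p ▸ isRat_add hr2 (isRat_smul hβF hz),
      Submodule.mem_span_pair.mpr ⟨_, _, hvex.symm⟩, Submodule.mem_span_pair.mpr ⟨_, _, hwex.symm⟩,
      Submodule.mem_span_pair.mpr ⟨D⁻¹ * polar q w x₂, -(D⁻¹ * polar q v x₂), ?_⟩,
      Submodule.mem_span_pair.mpr ⟨-(D⁻¹ * polar q w x₁), D⁻¹ * polar q v x₁, ?_⟩⟩
    · rw [hv']; module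
    · rw [hw']; module
  · push Not at hD
    -- the rational point lies on the line
    have key : ∀ u : V, polar q z u = 0 → (∀ x, IsRatVec F₀ x → polar q z x = 0 → polar q u x = 0) →
        u = polar q z' u • z := by
      intro u hzu hu
      refine sub_eq_zero.mp (H.eq_zero fun y hy => ?_)
      have h1 := hu (y - polar q z y • z') (isRat_sub hy (isRat_smul (H.polar_rat hz hy) hz'))
        (by rw [polar_sub_right, polar_smul_right, hp.pair, smul_eq_mul, mul_one, sub_self])
      rw [polar_sub_right, polar_smul_right, smul_eq_mul, polar_comm q u y, polar_comm q u z'] at h1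
      rw [polar_sub_right, polar_smul_right, smul_eq_mul, polar_comm q y z]
      linear_combination h1
    obtain ⟨a, b, hab⟩ : ∃ a b : F, z = a • v + b • w := by
      by_cases hv0 : ∀ x, IsRatVec F₀ x → polar q z x = 0 → polar q v x = 0
      · have e := key v hzv hv0
        have hne : polar q z' v ≠ 0 := fun h0 => one_ne_zero (hind 1 0 (by rw [e, h0]; simp)).1
        refine ⟨(polar q z' v)⁻¹, 0, ?_⟩
        rw [zero_smul, add_zero]
        exact (eq_inv_smul_iff₀ hne).mpr e.symm
      · push Not at hv0
        obtain ⟨x, hx, hzx, hvx⟩ := hv0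
        have e := key (polar q v x • w - polar q w x • v)
          (by rw [polar_sub_right, polar_smul_right, polar_smul_right, hzv, hzw]; simp) fun y hy hzy => by
            rw [polar_sub_left, polar_smul_left, polar_smul_left]; exact hD x y hx hy hzx hzy
        set k := polar q z' (polar q v x • w - polar q w x • v)
        have hk : k ≠ 0 := fun h0 => hvx (hind (-polar q w x) (polar q v x) (by
          rw [h0, zero_smul] at e
          rw [← e]; module)).2
        refine ⟨-(k⁻¹ * polar q w x), k⁻¹ * polar q v x, ?_⟩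
        calc z = k⁻¹ • (k • z) := by rw [smul_smul, inv_mul_cancel₀ hk, one_smul]
          _ = k⁻¹ • (polar q v x • w - polar q w x • v) := by rw [← e]
          _ = _ := by module
    -- the root element is attached to the rational point
    obtain ⟨u, hu, hvu, hwu, hroot⟩ : ∃ u : V, u ∈ Submodule.span F ({v, w} : Set V) ∧
        v ∈ Submodule.span F ({z, u} : Set V) ∧ w ∈ Submodule.span F ({z, u} : Set V) ∧ RootIn M z u := by
      rcases eq_or_ne b 0 with hb | hb
      · rw [hb, zero_smul, add_zero] at hab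
        have ha : a ≠ 0 := fun h => hz0 (by rw [hab, h, zero_smul])
        have hzu : polar q z (a⁻¹ • w) = 0 := by rw [polar_smul_right, hzw, smul_zero]
        refine ⟨a⁻¹ • w, Submodule.smul_mem _ _ (Submodule.subset_span (by simp)),
          Submodule.mem_span_pair.mpr ⟨a⁻¹, 0, ?_⟩, Submodule.mem_span_pair.mpr ⟨0, a, ?_⟩, hzz, hzu, ?_⟩
        · rw [hab, smul_smul, inv_mul_cancel₀ ha, one_smul, zero_smul, add_zero]
        · rw [zero_smul, zero_add, smul_smul, mul_inv_cancel₀ ha, one_smul]
        · convert hm.2.2 using 1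
          refine orth_ext fun x => ?_
          rw [eich_line_apply hzz (by rw [QuadraticMap.map_smul, hww, smul_zero]) hzu, eich_line_apply hvv hww hvw,
            hab]
          simp only [polar_smul_left, smul_eq_mul]
          match_scalars <;> field_simp
      · have hzu : polar q z ((-b⁻¹) • v) = 0 := by rw [polar_smul_right, hzv, smul_zero]
        refine ⟨(-b⁻¹) • v, Submodule.smul_mem _ _ (Submodule.subset_span (by simp)),
          Submodule.mem_span_pair.mpr ⟨0, -b, ?_⟩, Submodule.mem_span_pair.mpr ⟨b⁻¹, a, ?_⟩, hzz, hzu, ?_⟩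
        · rw [zero_smul, zero_add, smul_smul, neg_mul_neg, mul_inv_cancel₀ hb, one_smul]
        · rw [hab]; match_scalars <;> field_simp <;> ring
        · convert hm.2.2 using 1
          refine orth_ext fun x => ?_
          rw [eich_line_apply hzz (by rw [QuadraticMap.map_smul, hvv, smul_zero]) hzu, eich_line_apply hvv hww hvw,
            hab]
          simp only [polar_add_left, polar_smul_left, smul_eq_mul]
          match_scalars <;> field_simp <;> ring
    obtain ⟨t, ht⟩ := H.param_rat hM hns hz hz0 hroot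
    have hzmem : z ∈ Submodule.span F ({v, w} : Set V) := Submodule.mem_span_pair.mpr ⟨a, b, hab.symm⟩
    have hle : Submodule.span F ({z, u} : Set V) ≤ Submodule.span F ({z, u - t • z} : Set V) :=
      Submodule.span_le.mpr (by
        rintro y (rfl | rfl)
        · exact Submodule.subset_span (by simp)
        · exact Submodule.mem_span_pair.mpr ⟨t, 1, by module⟩)
    exact ⟨z, u - t • z, hz, ht, hle hvu, hle hwu, hzmem, Submodule.sub_mem _ hu (Submodule.smul_mem _ _ hzmem)⟩

/-- An element carrying a rational line orthogonally to a rational singular vector is rational up to a scalar. -/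
theorem OR.criterion {y : orth q} (hy : y ∈ M) {a b z : V} (ha : IsRatVec F₀ a) (hb : IsRatVec F₀ b) (haa : q a = 0)
    (hbb : q b = 0) (hab : polar q a b = 0) (ha0 : a ≠ 0) (hba : b ∉ Submodule.span F {a}) (hz : IsRatVec F₀ z)
    (hz0 : z ≠ 0) (hzz : q z = 0) (hza : polar q z ((y : V ≃ₗ[F] V) a) = 0)
    (hzb : polar q z ((y : V ≃ₗ[F] V) b) = 0) : SubF F₀ y := by
  classical
  set Y : V ≃ₗ[F] V := (y : V ≃ₗ[F] V) with hY
  have hind : ∀ c d : V, c ≠ 0 → d ∉ Submodule.span F {c} → ∀ s t : F, s • c + t • d = 0 → s = 0 ∧ t = 0 := by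
    intro c d hc0 hdc s t hst
    rcases eq_or_ne t 0 with rfl | ht
    · rw [zero_smul, add_zero] at hst
      exact ⟨(smul_eq_zero.mp hst).resolve_right hc0, rfl⟩
    · exact absurd (Submodule.mem_span_singleton.mpr ⟨-(t⁻¹ * s), by
        have : d = t⁻¹ • -(s • c) := by
          rw [← eq_neg_of_add_eq_zero_right hst, smul_smul, inv_mul_cancel₀ ht, one_smul]
        rw [this]; module⟩) hdc
  have base : ∀ c d z : V, IsRatVec F₀ c → IsRatVec F₀ d → q c = 0 → q d = 0 → polar q c d = 0 → c ≠ 0 →
      d ∉ Submodule.span F {c} → IsRatVec F₀ z → z ≠ 0 → q z = 0 → polar q z (Y c) = 0 → polar q z (Y d) = 0 →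
      RatPlane F₀ (Y c) (Y d) := by
    intro c d z hc hd hcc hdd hcd hc0 hdc hz hz0 hzz hzc hzd
    refine H.line_rat hM hns (by rw [hY, orth_map, hcc]) (by rw [hY, orth_map, hdd])
      (by rw [hY, orth_polar, hcd]) (fun s t hst => hind c d hc0 hdc s t ?_)
      ((H.rootIn_rat hM hc hd hcc hcd).conj hy) hz hz0 hzz hzc hzd
    rw [← map_smul, ← map_smul, ← map_add] at hst
    exact Y.map_eq_zero_iff.mp hst
  have step : ∀ c d e g : V, q c = 0 → q d = 0 → polar q c d = 0 → c ≠ 0 → d ∉ Submodule.span F {c} →
      RatPlane F₀ (Y c) (Y d) → IsRatVec F₀ e → IsRatVec F₀ g → q e = 0 → q g = 0 → polar q e g = 0 → e ≠ 0 →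
      g ∉ Submodule.span F {e} → polar q c e = 0 → polar q c g = 0 → polar q d e = 0 → polar q d g = 0 →
      RatPlane F₀ (Y e) (Y g) := by
    intro c d e g hcc hdd hcd hc0 hdc hP he hg hee hgg heg he0 hge h1 h2 h3 h4
    obtain ⟨p, p', hp, hp', hcm, hdm, hpm, hp'm⟩ := hP
    have hne : p ≠ 0 ∨ p' ≠ 0 := by
      by_contra hc'; push Not at hc'
      obtain ⟨s, t, e1⟩ := Submodule.mem_span_pair.mp hcm
      rw [hc'.1, hc'.2, smul_zero, smul_zero, add_zero] at e1
      exact hc0 (Y.map_eq_zero_iff.mp e1.symm)
    obtain ⟨u, hu, hu0, hum⟩ : ∃ u, IsRatVec F₀ u ∧ u ≠ 0 ∧ u ∈ Submodule.span F ({Y c, Y d} : Set V) :=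
      hne.elim (fun h => ⟨p, hp, h, hpm⟩) (fun h => ⟨p', hp', h, hp'm⟩)
    obtain ⟨s, t, e1⟩ := Submodule.mem_span_pair.mp hum
    rw [← map_smul, ← map_smul, ← map_add] at e1
    refine base e g u he hg hee hgg heg he0 hge hu hu0 ?_ ?_ ?_ <;> rw [← e1, hY]
    · rw [orth_map, map_smul_add_smul, hcc, hdd, hcd]; ring
    · rw [orth_polar, polar_add_left, polar_smul_left, polar_smul_left, h1, h3]; simp
    · rw [orth_polar, polar_add_left, polar_smul_left, polar_smul_left, h2, h4]; simp
  have hbase := base a b z ha hb haa hbb hab ha0 hba hz hz0 hzz hza hzb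
  have hlines : ∀ e g : V, IsRatVec F₀ e → IsRatVec F₀ g → q e = 0 → q g = 0 → polar q e g = 0 → e ≠ 0 →
      g ∉ Submodule.span F {e} → RatPlane F₀ (Y e) (Y g) := by
    intro e g he hg hee hgg heg he0 hge
    obtain ⟨x, hx, hxx, hx0, hxs, hxn⟩ := H.exists_sing ![a, e] (fun i => by fin_cases i <;> assumption) ![a, e]
      (fun i => by fin_cases i <;> assumption) (by have := H.big; omega)
    rw [show Set.range ![a, e] = ({a, e} : Set V) by simp [Set.pair_comm]] at hxn
    have hax : polar q a x = 0 := by simpa using hxs 0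
    have hex : polar q e x = 0 := by simpa using hxs 1
    have hxa : x ∉ Submodule.span F {a} := fun h => hxn (Submodule.span_mono (by simp) h)
    have hxe : x ∉ Submodule.span F {e} := fun h => hxn (Submodule.span_mono (by simp) h)
    have hinv : ∀ {c x : V}, c ≠ 0 → x ∉ Submodule.span F {c} → c ∉ Submodule.span F {x} := by
      intro c x hc0 hxc hm
      obtain ⟨t, rfl⟩ := Submodule.mem_span_singleton.mp hm
      have ht : t ≠ 0 := fun h => hc0 (by rw [h, zero_smul])
      exact hxc (Submodule.mem_span_singleton.mpr ⟨t⁻¹, by rw [smul_smul, inv_mul_cancel₀ ht, one_smul]⟩)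
    have symm : ∀ {c d : V}, RatPlane F₀ (Y c) (Y d) → RatPlane F₀ (Y d) (Y c) := by
      rintro c d ⟨p, p', h1, h2, h3, h4, h5, h6⟩
      exact ⟨p, p', h1, h2, h4, h3, by rwa [Set.pair_comm], by rwa [Set.pair_comm]⟩
    have piv : ∀ c d f : V, IsRatVec F₀ c → IsRatVec F₀ d → IsRatVec F₀ f → q c = 0 → q d = 0 → q f = 0 →
        polar q c d = 0 → polar q c f = 0 → c ≠ 0 → d ∉ Submodule.span F {c} → f ∉ Submodule.span F {c} →
        RatPlane F₀ (Y c) (Y d) → RatPlane F₀ (Y c) (Y f) := by
      intro c d f hc hd hf hcc hdd hff hcd hcf hc0 hdc hfc hP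
      have hself : polar q c c = 0 := by rw [polar_self', hcc, mul_zero]
      by_cases hdf : polar q d f = 0
      · exact step c d c f hcc hdd hcd hc0 hdc hP hc hf hcc hff hcf hc0 hfc hself hcf (by rw [polar_comm, hcd]) hdf
      obtain ⟨w, hw, hww, -, hws, hwn⟩ := H.exists_sing ![c, d, f] (fun i => by fin_cases i <;> assumption) ![c]
        (fun i => by fin_cases i; exact hc) (by have := H.big; omega)
      have hcw : polar q c w = 0 := by simpa using hws 0
      have hdw : polar q d w = 0 := by simpa using hws 1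
      have hfw : polar q f w = 0 := by simpa using hws 2
      have hwc : w ∉ Submodule.span F {c} := by simpa using hwn
      have h1 := step c d c w hcc hdd hcd hc0 hdc hP hc hw hcc hww hcw hc0 hwc hself hcw (by rw [polar_comm, hcd]) hdw
      exact step c w c f hcc hww hcw hc0 hwc h1 hc hf hcc hff hcf hc0 hfc hself hcf (by rw [polar_comm, hcw])
        (by rw [polar_comm, hfw])
    have h1 := piv a b x ha hb hx haa hbb hxx hab hax ha0 hba hxa hbase
    have h2 := piv x a e hx ha he hxx haa hee (by rw [polar_comm, hax]) (by rw [polar_comm, hex]) hx0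
      (hinv ha0 hxa) (hinv he0 hxe) (symm h1)
    exact piv e x g he hx hg hee hxx hgg hex heg he0 hxe hge (symm h2)
  haveI : FiniteDimensional F₀ F := inferInstance
  have hpoint : ∀ e, IsRatVec F₀ e → q e = 0 → e ≠ 0 →
      ∃ (k : F) (u : V), IsRatVec F₀ u ∧ k ≠ 0 ∧ Y e = k • u := by
    intro e he hee he0
    obtain ⟨g, g', hg, hg', hgg, hg'g', hgg', -, -, hgs, hg's⟩ := H.exists_line ![e]
      (fun i => by fin_cases i; exact he) (by have := H.big; omega)
    obtain ⟨b₁, hb₁, hb₁b₁, -, hb₁s, hb₁n⟩ := H.exists_sing ![e] (fun i => by fin_cases i; exact he) ![e]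
      (fun i => by fin_cases i; exact he) (by have := H.big; omega)
    obtain ⟨b₂, hb₂, hb₂b₂, -, hb₂s, hb₂n⟩ := H.exists_sing ![e, b₁] (fun i => by fin_cases i <;> assumption) ![e, b₁]
      (fun i => by fin_cases i <;> assumption) (by have := H.big; omega)
    have hb₁e : b₁ ∉ Submodule.span F {e} := by simpa using hb₁n
    have hr2 : Set.range ![e, b₁] = ({e, b₁} : Set V) := by simp [Set.pair_comm]
    rw [hr2] at hb₂n
    have hb₂e : b₂ ∉ Submodule.span F {e} := fun h => hb₂n (Submodule.span_mono (by simp) h)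
    obtain ⟨p, p', hp, hp', hem, -, hpm, hp'm⟩ := hlines e b₁ he hb₁ hee hb₁b₁ (by simpa using hb₁s 0) he0 hb₁e
    obtain ⟨u, u', hu, hu', hem', -, hum, hu'm⟩ := hlines e b₂ he hb₂ hee hb₂b₂ (by simpa using hb₂s 0) he0 hb₂e
    obtain ⟨j, hj⟩ := Function.ne_iff.mp (Y.map_ne_zero_iff.mpr he0)
    obtain ⟨φ, hφ⟩ : ∃ φ : F →ₗ[F₀] F₀, φ (Y e j) = 1 := by
      obtain ⟨φ, h1, -⟩ := Submodule.exists_dual_map_eq_bot_of_notMem
        (show Y e j ∉ (⊥ : Submodule F₀ F) from fun h => hj ((Submodule.mem_bot F₀).mp h)) inferInstance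
      exact ⟨(φ (Y e j))⁻¹ • φ, by rw [LinearMap.smul_apply, smul_eq_mul, inv_mul_cancel₀ h1]⟩
    set P : V := fun i => ((φ (Y e i) : F₀) : F) with hP
    have hPr : IsRatVec F₀ P := fun i => (φ (Y e i)).2
    have hin : ∀ p p' : V, IsRatVec F₀ p → IsRatVec F₀ p' → Y e ∈ Submodule.span F ({p, p'} : Set V) →
        P ∈ Submodule.span F ({p, p'} : Set V) := by
      intro p p' hp hp' hm'
      obtain ⟨s, t, hst⟩ := Submodule.mem_span_pair.mp hm'
      refine Submodule.mem_span_pair.mpr ⟨((φ s : F₀) : F), ((φ t : F₀) : F), funext fun i => ?_⟩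
      have e1 : Y e i = (⟨p i, hp i⟩ : F₀) • s + (⟨p' i, hp' i⟩ : F₀) • t := by
        rw [← hst]
        simp only [Pi.add_apply, Pi.smul_apply, smul_eq_mul]
        change s * p i + t * p' i = p i * s + p' i * t
        ring
      simp only [hP, Pi.add_apply, Pi.smul_apply, smul_eq_mul, e1, map_add, map_smul, Subfield.coe_add,
        Subfield.coe_mul]
      ring
    have h1 := Submodule.span_le.mpr (Set.insert_subset hpm (Set.singleton_subset_iff.mpr hp'm)) (hin p p' hp hp' hem)
    have h2 := Submodule.span_le.mpr (Set.insert_subset hum (Set.singleton_subset_iff.mpr hu'm))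
      (hin u u' hu hu' hem')
    obtain ⟨s₁, t₁, e1⟩ := Submodule.mem_span_pair.mp h1
    obtain ⟨s₂, t₂, e2⟩ := Submodule.mem_span_pair.mp h2
    have e3 : (s₁ - s₂) • e + t₁ • b₁ = t₂ • b₂ := Y.injective (by
      rw [map_add, map_smul, map_smul, map_smul, sub_smul, sub_add_eq_add_sub, e1, ← e2, add_sub_cancel_left])
    have ht₂ : t₂ = 0 := by
      by_contra ht
      refine hb₂n (Submodule.mem_span_pair.mpr ⟨t₂⁻¹ * (s₁ - s₂), t₂⁻¹ * t₁, ?_⟩)
      rw [mul_smul, mul_smul, ← smul_add, e3, smul_smul, inv_mul_cancel₀ ht, one_smul]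
    rw [ht₂, zero_smul, add_zero] at e2
    have hP0 : P ≠ 0 := fun h => by
      have := congrFun h j
      simp [hP, hφ] at this
    have hs2 : s₂ ≠ 0 := fun h => hP0 (by rw [← e2, h, zero_smul])
    exact ⟨s₂⁻¹, P, hPr, inv_ne_zero hs2, by rw [← e2, smul_smul, inv_mul_cancel₀ hs2, one_smul]⟩
  have hsum : ∀ e g k l u w, IsRatVec F₀ e → IsRatVec F₀ g → q e = 0 → q g = 0 → polar q e g = 0 → e ≠ 0 →
      g ∉ Submodule.span F {e} → IsRatVec F₀ u → IsRatVec F₀ w → k ≠ 0 → l ≠ 0 → Y e = k • u → Y g = l • w →
      l / k ∈ F₀ := by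
    intro e g k l u w he hg hee hgg heg he0 hge hu hw hk hl e1 e2
    obtain ⟨m, o, ho, hm0, e3⟩ := hpoint (e + g) (isRat_add he hg)
      (by rw [QuadraticMap.map_add (⇑q), hee, hgg, heg, add_zero, add_zero])
      (fun h => one_ne_zero (hind e g he0 hge 1 1 (by rw [one_smul, one_smul, h])).1)
    rw [map_add, e1, e2] at e3
    have e4 : u + (l / k) • w = (m / k) • o := by
      have := congrArg (fun v : V => k⁻¹ • v) e3
      simp only [smul_add, smul_smul, inv_mul_cancel₀ hk, one_smul] at this
      simpa [div_eq_inv_mul] using this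
    have hnu : u ∉ Submodule.span F {w} := fun h => by
      obtain ⟨t, rfl⟩ := Submodule.mem_span_singleton.mp h
      obtain ⟨hk0, -⟩ := hind e g he0 hge l (-(k * t)) (Y.injective (by
        rw [map_add, map_smul, map_smul, map_zero, e1, e2]; module))
      exact hl hk0
    have hnw : w ∉ Submodule.span F {u} := fun h => by
      obtain ⟨t, rfl⟩ := Submodule.mem_span_singleton.mp h
      obtain ⟨-, hk0⟩ := hind e g he0 hge (-(l * t)) k (Y.injective (by
        rw [map_add, map_smul, map_smul, map_zero, e1, e2]; module))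
      exact hk hk0
    obtain ⟨φ, hφ1, hφ0⟩ := exists_functional_rat H (s := ![w]) (fun i => by fin_cases i; exact hw) hu
      (by simpa using hnu)
    obtain ⟨ψ, hψ1, hψ0⟩ := exists_functional_rat H (s := ![u]) (fun i => by fin_cases i; exact hu) hw
      (by simpa using hnw)
    obtain ⟨o', rfl⟩ := exists_incl ho
    have f1 := congrArg (extF φ) e4
    have f2 := congrArg (extF ψ) e4
    rw [map_add, map_smul, map_smul, hφ1, show extF φ w = 0 from hφ0 0, smul_zero, add_zero, extF_incl,
      smul_eq_mul] at f1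
    rw [map_add, map_smul, map_smul, hψ1, show extF ψ u = 0 from hψ0 0, zero_add, smul_eq_mul, mul_one, extF_incl,
      smul_eq_mul] at f2
    rw [f2]
    refine mul_mem ?_ (ψ o').2
    rw [eq_inv_of_mul_eq_one_left f1.symm]
    exact inv_mem (φ o').2
  obtain ⟨c, u₀, hu₀, hc, hca⟩ := hpoint a ha haa ha0
  have hall : ∀ e, IsRatVec F₀ e → q e = 0 → IsRatVec F₀ (c⁻¹ • Y e) := by
    intro e he hee
    rcases eq_or_ne e 0 with rfl | he0
    · rw [map_zero, smul_zero]; exact isRat_zero
    obtain ⟨x, hx, hxx, hx0, hxs, hxn⟩ := H.exists_sing ![a, e] (fun i => by fin_cases i <;> assumption) ![a, e]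
      (fun i => by fin_cases i <;> assumption) (by have := H.big; omega)
    have hr2 : Set.range ![a, e] = ({a, e} : Set V) := by simp [Set.pair_comm]
    rw [hr2] at hxn
    obtain ⟨cx, rx, hrx, hcx, ex⟩ := hpoint x hx hxx hx0
    obtain ⟨ce, re, hre, hce, ee⟩ := hpoint e he hee he0
    have q1 := hsum a x c cx u₀ rx ha hx haa hxx (by simpa using hxs 0) ha0
      (fun h => hxn (Submodule.span_mono (by simp) h)) hu₀ hrx hc hcx hca ex
    have q2 := hsum e x ce cx re rx he hx hee hxx (by simpa using hxs 1) he0
      (fun h => hxn (Submodule.span_mono (by simp) h)) hre hrx hce hcx ee ex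
    rw [ee, smul_smul]
    refine isRat_smul ?_ hre
    have := mul_mem q1 (inv_mem q2)
    rwa [inv_div, div_mul_div_comm, mul_comm c cx, mul_div_mul_left _ _ hcx, div_eq_inv_mul] at this
  refine ⟨c⁻¹, inv_ne_zero hc, fun x hx => ?_⟩
  exact H.rat_span (Fin.elim0 : Fin 0 → V) (fun i => i.elim0) (by have := H.big; omega)
    (p := fun x => IsRatVec F₀ (c⁻¹ • Y x)) (fun x x' h h' => by rw [map_add, smul_add]; exact isRat_add h h')
    (fun k hk x h => by rw [map_smul, smul_comm]; exact isRat_smul hk h) (fun z hz hzz _ => hall z hz hzz) hx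
    (fun i => i.elim0)

end Cfsg.Agent.H98.OSub
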