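import Mathlib
import Cfsg.Prelude.Def_GeometricClasses

set_option autoImplicit false
set_option linter.style.haveILetI false

/-!
Transvections in `GL(ι, F)` given by a vector and a linear functional, for the statements about subspace stabilisers.
-/

namespace Cfsg.Agent.H98

open scoped Matrix

variable {ι : Type} [Fintype ι] [DecidableEq ι] {F : Type*} [Field F]

/-- The matrix of `x ↦ x + φ x • a`. -/
def transMat (φ : (ι → F) →ₗ[F] F) (a : ι → F) : Matrix ι ι F :=
  1 + Matrix.vecMulVec a (fun i => φ (Pi.single i 1))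

/-- `transMat φ a` sends `x` to `x + φ x • a`. -/
theorem transMat_mulVec (φ : (ι → F) →ₗ[F] F) (a x : ι → F) :
    transMat φ a *ᵥ x = x + φ x • a := by
  rw [transMat, Matrix.add_mulVec, Matrix.one_mulVec]
  congr 1
  rw [Matrix.vecMulVec_mulVec]
  have : (fun i => φ (Pi.single i 1)) ⬝ᵥ x = φ x := by
    conv_rhs => rw [pi_eq_sum_univ' x]
    simp [dotProduct, map_sum, mul_comm]
  rw [this, op_smul_eq_smul]

/-- A transvection as an element of `GL(ι, F)`. -/
def transGL (φ : (ι → F) →ₗ[F] F) (a : ι → F) (h : φ a = 0) : GL ι F where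
  val := transMat φ a
  inv := transMat φ (-a)
  val_inv := Matrix.ext_of_mulVec_single fun i => by
    rw [← Matrix.mulVec_mulVec, transMat_mulVec, transMat_mulVec, Matrix.one_mulVec]
    simp [h]
  inv_val := Matrix.ext_of_mulVec_single fun i => by
    rw [← Matrix.mulVec_mulVec, transMat_mulVec, transMat_mulVec, Matrix.one_mulVec]
    simp [h]

@[simp] theorem transGL_mulVec (φ : (ι → F) →ₗ[F] F) (a x : ι → F) (h : φ a = 0) :
    (transGL φ a h : Matrix ι ι F) *ᵥ x = x + φ x • a := transMat_mulVec φ a x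

/-- Transvections have determinant one. -/
theorem transGL_mem_sl (φ : (ι → F) →ₗ[F] F) (a : ι → F) (h : φ a = 0) :
    transGL φ a h ∈ Cfsg.Geo.specialLinear ι F := by
  rw [Cfsg.Geo.specialLinear, MonoidHom.mem_ker, ← Units.val_inj]
  change (transMat φ a).det = 1
  rw [transMat, Matrix.vecMulVec_eq Unit, Matrix.det_one_add_replicateCol_mul_replicateRow]
  have : (fun i => φ (Pi.single i 1)) ⬝ᵥ a = φ a := by
    conv_rhs => rw [pi_eq_sum_univ' a]
    simp [dotProduct, map_sum, mul_comm]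
  rw [this, h, add_zero]

/-- Membership in a subspace stabiliser. -/
theorem mem_subspaceStabilizer {W : Submodule F (ι → F)} {g : GL ι F} :
    g ∈ Cfsg.Geo.subspaceStabilizer W ↔ ∀ v, v ∈ W ↔ (g : Matrix ι ι F) *ᵥ v ∈ W := Iff.rfl

/-- A transvection fixing a hyperplane that contains `W` stabilises `W`. -/
theorem transGL_stab_of_ker {W : Submodule F (ι → F)} (φ : (ι → F) →ₗ[F] F) (a : ι → F) (h : φ a = 0)
    (hW : W ≤ LinearMap.ker φ) : transGL φ a h ∈ Cfsg.Geo.subspaceStabilizer W := by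
  rw [mem_subspaceStabilizer]
  intro v
  rw [transGL_mulVec]
  constructor
  · intro hv; rwa [LinearMap.mem_ker.mp (hW hv), zero_smul, add_zero]
  · intro hv
    have := LinearMap.mem_ker.mp (hW hv)
    rw [map_add, map_smul, h, smul_zero, add_zero] at this
    rwa [this, zero_smul, add_zero] at hv

/-- A transvection that moves a vector of `W` out of `W` does not stabilise `W`. -/
theorem transGL_not_stab {W : Submodule F (ι → F)} (φ : (ι → F) →ₗ[F] F) (a : ι → F) (h : φ a = 0)
    {w : ι → F} (hw : w ∈ W) (hφ : φ w = 1) (ha : a ∉ W) :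
    transGL φ a h ∉ Cfsg.Geo.subspaceStabilizer W := by
  intro hg
  have := (mem_subspaceStabilizer.mp hg w).mp hw
  rw [transGL_mulVec, hφ, one_smul] at this
  exact ha (by simpa using W.sub_mem this hw)

/-- A functional which is `1` at `x` and vanishes on a subspace not containing `x`. -/
theorem exists_functional {S : Submodule F (ι → F)} {x : ι → F} (hx : x ∉ S) :
    ∃ φ : (ι → F) →ₗ[F] F, φ x = 1 ∧ S ≤ LinearMap.ker φ := by
  obtain ⟨φ, h1, h2⟩ := Submodule.exists_dual_map_eq_bot_of_notMem hx inferInstance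
  refine ⟨(φ x)⁻¹ • φ, by simp [h1], fun y hy => ?_⟩
  have : φ y = 0 := by
    rw [← Submodule.mem_bot (R := F), ← h2]
    exact Submodule.mem_map_of_mem hy
  simp [this]

/-- Two subspaces in "non-maximal position": the joint stabiliser lies strictly between. -/
theorem stab_pair_not_maximal (W U : Submodule F (ι → F)) (hW0 : W ≠ ⊥) (hW1 : W ≠ ⊤)
    (hU : ∃ φ : (ι → F) →ₗ[F] F, ∃ a u : ι → F, φ a = 0 ∧ u ∈ U ∧ φ u = 1 ∧ a ∉ U ∧ W ≤ LinearMap.ker φ) :
    ∃ K : Subgroup (GL ι F),
      Cfsg.Geo.subspaceStabilizer W ⊓ Cfsg.Geo.subspaceStabilizer U ⊓ Cfsg.Geo.specialLinear ι F < K ∧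
        K < Cfsg.Geo.specialLinear ι F := by
  refine ⟨Cfsg.Geo.subspaceStabilizer W ⊓ Cfsg.Geo.specialLinear ι F,
    lt_of_le_not_ge (fun g hg => ⟨hg.1.1, hg.2⟩) ?_, lt_of_le_not_ge inf_le_right ?_⟩
  · intro hle
    obtain ⟨φ, a, u, ha, hu, hφu, haU, hW⟩ := hU
    have := hle ⟨transGL_stab_of_ker φ a ha hW, transGL_mem_sl φ a ha⟩
    exact transGL_not_stab φ a ha hu hφu haU this.1.2
  · intro hle
    obtain ⟨w, hw, hw0⟩ := Submodule.exists_mem_ne_zero_of_ne_bot hW0
    obtain ⟨a, -, ha⟩ := SetLike.exists_of_lt (lt_top_iff_ne_top.mpr hW1)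
    have hwa : w ∉ Submodule.span F {a} := by
      intro h
      obtain ⟨c, rfl⟩ := Submodule.mem_span_singleton.mp h
      refine ha ?_
      have hc : c ≠ 0 := fun h => hw0 (by simp [h])
      simpa [hc] using W.smul_mem c⁻¹ hw
    obtain ⟨φ, hφ, hk⟩ := exists_functional hwa
    have ha0 : φ a = 0 := LinearMap.mem_ker.mp (hk (Submodule.mem_span_singleton_self a))
    exact transGL_not_stab φ a ha0 hw hφ ha (hle (transGL_mem_sl φ a ha0)).1

end Cfsg.Agent.H98
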