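import Cfsg.Agent.H98.MaximalUSubOrth
import Cfsg.Agent.H98.SubfieldScalars

set_option autoImplicit false
set_option linter.unusedSectionVars false

/-!
Odd degree subfield subgroups of `SU`: the form on rational vectors is unitary over the subfield; transitivity on
rational isotropic vectors.
-/

namespace Cfsg.Agent.H98.Herm

open scoped Matrix

variable {F : Type*} [Field F] [Fintype F] {q n : ℕ}

local notation "Mat" => Matrix (Fin n) (Fin n) F

/-- Hypotheses for an odd prime degree rational structure. -/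
structure OddRat (hF : Fintype.card F = q ^ 2) (F₀ : Subfield F) (r : ℕ) (P : GL (Fin n) F) : Prop where
  hn : 13 ≤ n
  prime : r.Prime
  odd : Odd r
  card : Fintype.card F = Nat.card F₀ ^ r
  rat : ∀ u v : Fin n → F, IsRatVec F₀ u → IsRatVec F₀ v → pullForm n q P u v ∈ F₀

variable {hF : Fintype.card F = q ^ 2} {F₀ : Subfield F} {r : ℕ} {P : GL (Fin n) F} (H : OddRat hF F₀ r P)

/-- Coordinates in the subfield viewed in the field. -/
def incV (a : Fin n → F₀) : Fin n → F := fun i => (a i : F)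

theorem incV_rat (a : Fin n → F₀) : IsRatVec F₀ (incV a) := fun i => (a i).2

theorem incV_add (a b : Fin n → F₀) : incV (a + b) = incV a + incV b := rfl

theorem incV_smul (c : F₀) (a : Fin n → F₀) : incV (c • a) = (c : F) • incV a := rfl

theorem incV_zero : incV (0 : Fin n → F₀) = 0 := rfl

theorem exists_incV {x : Fin n → F} (hx : IsRatVec F₀ x) : ∃ a : Fin n → F₀, incV a = x :=
  ⟨fun i => ⟨x i, hx i⟩, rfl⟩

theorem incV_injective : Function.Injective (incV : (Fin n → F₀) → Fin n → F) := fun a b h =>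
  funext fun i => Subtype.ext (congrFun h i)

include H

theorem OddRat.herm : Cfsg.Geo.IsUnitaryForm (frobQ hF) (pullForm n q P) := isUnitary_pull hF P

theorem OddRat.sigma_mem {x : F} (hx : x ∈ F₀) : frobQ hF x ∈ F₀ := by
  rw [frobQ_apply]; exact pow_mem hx q

/-- The involution does not fix the subfield. -/
theorem OddRat.sigma_ne : ∃ x, x ∈ F₀ ∧ frobQ hF x ≠ x := by
  classical
  haveI := Fintype.ofFinite F₀
  by_contra hall
  push Not at hall
  obtain ⟨s, hs⟩ := H.odd
  have hc : 2 ≤ Nat.card F₀ := by rw [Nat.card_eq_fintype_card]; exact Fintype.one_lt_card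
  have hq : q ^ 2 = Nat.card F₀ ^ (2 * s + 1) := by rw [← hs, ← H.card, hF]
  obtain ⟨m, hm⟩ : Nat.card F₀ ^ s ∣ q := by
    refine (Nat.pow_dvd_pow_iff two_ne_zero).mp ⟨Nat.card F₀, ?_⟩
    rw [← pow_mul, hq, mul_comm s 2, pow_succ]
  have hmm : Nat.card F₀ = m * m := by
    rw [hm, mul_pow, ← pow_mul, mul_comm s 2, pow_succ] at hq
    rw [← pow_two]
    exact (mul_left_cancel₀ (pow_ne_zero _ (by omega)) hq).symm
  have hpow : ∀ (t : ℕ) (x : F₀), x ^ (Nat.card F₀ ^ t) = x := fun t => by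
    induction t with
    | zero => simp
    | succ t ih => intro x; rw [pow_succ, mul_comm, pow_mul, Nat.card_eq_fintype_card, FiniteField.pow_card,
        ← Nat.card_eq_fintype_card, ih]
  have hm2 : 2 ≤ m := by
    rcases m with _ | _ | m <;> omega
  have hroots : ∀ x : F₀, x ^ m = x := fun x => Subtype.ext (by
    have h := hall (x : F) x.2
    rw [frobQ_apply, hm, pow_mul, ← SubmonoidClass.coe_pow, hpow s x] at h
    rw [SubmonoidClass.coe_pow]; exact h)
  set Pm : Polynomial F₀ := Polynomial.X ^ m - Polynomial.X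
  have hdeg : Pm.natDegree = m := FiniteField.X_pow_card_sub_X_natDegree_eq F₀ hm2
  have hne : Pm ≠ 0 := FiniteField.X_pow_card_sub_X_ne_zero F₀ hm2
  have hsub : (Finset.univ : Finset F₀) ⊆ Pm.roots.toFinset := fun x _ => by
    rw [Multiset.mem_toFinset, Polynomial.mem_roots hne, Polynomial.IsRoot]
    simp [Pm, hroots x]
  have h1 := ((Finset.card_le_card hsub).trans (Multiset.toFinset_card_le _)).trans Pm.card_roots'
  rw [Finset.card_univ, ← Nat.card_eq_fintype_card, hmm, hdeg] at h1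
  nlinarith

/-- The restricted automorphism. -/
noncomputable def OddRat.sigma₀ : F₀ ≃+* F₀ where
  toFun x := ⟨frobQ hF x, H.sigma_mem x.2⟩
  invFun x := ⟨frobQ hF x, H.sigma_mem x.2⟩
  left_inv x := Subtype.ext (H.herm.involutive x)
  right_inv x := Subtype.ext (H.herm.involutive x)
  map_mul' x y := Subtype.ext (map_mul (frobQ hF) (x : F) y)
  map_add' x y := Subtype.ext (map_add (frobQ hF) (x : F) y)

theorem OddRat.coe_sigma₀ (x : F₀) : (H.sigma₀ x : F) = frobQ hF x := rfl

/-- The form on coordinates in the subfield. -/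
def OddRat.form₀ : (Fin n → F₀) → (Fin n → F₀) → F₀ :=
  fun a b => ⟨pullForm n q P (incV a) (incV b), H.rat _ _ (incV_rat a) (incV_rat b)⟩

theorem OddRat.coe_form₀ (a b : Fin n → F₀) : (H.form₀ a b : F) = pullForm n q P (incV a) (incV b) := rfl

/-- A rational vector with non-zero product. -/
theorem OddRat.exists_nonorth {w : Fin n → F} (hw : w ≠ 0) :
    ∃ z : Fin n → F, IsRatVec F₀ z ∧ pullForm n q P z w ≠ 0 := by
  by_contra hc
  push Not at hc
  obtain ⟨x, hx⟩ := (H.herm.nondegenerate w hw).1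
  rw [← fl_apply H.herm, pi_eq_sum_univ' x, map_sum] at hx
  exact hx (Finset.sum_eq_zero fun i _ => by rw [map_smul, fl_apply, hc _ (isRat_single i), smul_zero])

theorem OddRat.herm₀ : Cfsg.Geo.IsUnitaryForm H.sigma₀ H.form₀ := by
  refine ⟨fun h => ?_, fun a => Subtype.ext (H.herm.involutive _), fun x y v => Subtype.ext (H.herm.add_left _ _ _),
    fun c x v => Subtype.ext (H.herm.smul_left _ _ _), fun v w => Subtype.ext (H.herm.herm _ _), fun v hv => ?_⟩
  · obtain ⟨x, hx, hne⟩ := H.sigma_ne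
    exact hne (congrArg Subtype.val (RingEquiv.congr_fun h (⟨x, hx⟩ : F₀)))
  · obtain ⟨z, hz, hne⟩ := H.exists_nonorth (w := incV v) (fun h => hv (incV_injective (h.trans incV_zero.symm)))
    obtain ⟨a, rfl⟩ := exists_incV hz
    refine ⟨⟨a, fun h => hne (congrArg Subtype.val h)⟩, ⟨a, fun h => hne ?_⟩⟩
    exact (eq_zero_comm H.herm).mp (congrArg Subtype.val h)

theorem OddRat.exists_skew₀ : ∃ ζ : F, ζ ∈ F₀ ∧ ζ ≠ 0 ∧ frobQ hF ζ = -ζ := by
  obtain ⟨ζ, hζ, hζ'⟩ := exists_skew H.herm₀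
  exact ⟨ζ, ζ.2, fun h => hζ (Subtype.ext h), congrArg Subtype.val hζ'⟩

/-- Rational hyperbolic pairs orthogonal to few rational vectors. -/
theorem OddRat.exists_pair {k : ℕ} (hk : k ≤ 5) (v : Fin k → Fin n → F) (hv : ∀ i, IsRatVec F₀ (v i)) :
    ∃ z y, IsRatVec F₀ z ∧ IsRatVec F₀ y ∧ (∀ i, pullForm n q P z (v i) = 0) ∧ (∀ i, pullForm n q P y (v i) = 0) ∧
      pullForm n q P z z = 0 ∧ pullForm n q P y y = 0 ∧ pullForm n q P z y = 1 ∧ pullForm n q P y z = 1 := by
  choose w hw using fun i => exists_incV (hv i)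
  set U := LinearMap.ker (LinearMap.pi fun i => fl H.herm₀ (w i))
  obtain ⟨z, hz, y, hy, e1, e2, e3, e4⟩ := exists_pair_in H.herm₀ U (by
    have h1 := finrank_perp H.herm₀ w
    change _ ≤ Module.finrank F₀ U + k at h1
    rw [Fintype.card_fin] at h1 ⊢
    have := H.hn
    omega)
  refine ⟨incV z, incV y, incV_rat z, incV_rat y, fun i => ?_, fun i => ?_, congrArg Subtype.val e1,
    congrArg Subtype.val e2, congrArg Subtype.val e3, congrArg Subtype.val e4⟩
  · rw [← hw i]; exact congrArg Subtype.val ((mem_perp H.herm₀ w z).mp hz i)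
  · rw [← hw i]; exact congrArg Subtype.val ((mem_perp H.herm₀ w y).mp hy i)

/-- Rational vectors are spanned over the subfield by rational isotropic vectors. -/
theorem OddRat.rat_span {p : (Fin n → F) → Prop} (h0 : p 0) (hadd : ∀ a b, p a → p b → p (a + b))
    (hsmul : ∀ (c : F), c ∈ F₀ → ∀ a, p a → p (c • a))
    (hiso : ∀ z, IsRatVec F₀ z → pullForm n q P z z = 0 → p z) {x : Fin n → F} (hx : IsRatVec F₀ x) : p x := by
  obtain ⟨a, rfl⟩ := exists_incV hx
  let S : Submodule F₀ (Fin n → F₀) :=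
    { carrier := {b | p (incV b)}
      add_mem' := fun {b c} hb hc => hadd _ _ hb hc
      zero_mem' := h0
      smul_mem' := fun c b hb => hsmul _ c.2 _ hb }
  obtain ⟨e, -, e', -, q1, q2, q3, q4⟩ := exists_pair_in H.herm₀ ⊤ (by
    rw [finrank_top, Module.finrank_pi, Fintype.card_fin]; have := H.hn; omega)
  exact le_of_isotropic H.herm₀ (S := S) Submodule.mem_top Submodule.mem_top q1 q2 q3 q4
    (fun w _ hw => hiso _ (incV_rat w) (congrArg Subtype.val hw)) (Submodule.mem_top (x := a))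

/-- A rational partner of a rational isotropic vector. -/
theorem OddRat.partner {z : Fin n → F} (hz : IsRatVec F₀ z) (hzz : pullForm n q P z z = 0) (hz0 : z ≠ 0) :
    ∃ y, IsRatVec F₀ y ∧ pullForm n q P y y = 0 ∧ pullForm n q P z y = 1 ∧ pullForm n q P y z = 1 := by
  obtain ⟨a, rfl⟩ := exists_incV hz
  obtain ⟨b, hb⟩ := (H.herm₀.nondegenerate a (fun h => hz0 (by rw [h, incV_zero]))).2
  obtain ⟨y, -, e1, e2, e3⟩ := partner_in H.herm₀ (U := ⊤) (e := a) (y := b) Submodule.mem_top Submodule.mem_top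
    (Subtype.ext hzz) hb
  exact ⟨incV y, incV_rat y, congrArg Subtype.val e1, congrArg Subtype.val e2, congrArg Subtype.val e3⟩

/-- Independence over the subfield of two rational vectors gives independence. -/
theorem OddRat.indep_of₀ {a b : Fin n → F₀} (ha : a ≠ 0) (hind : ∀ k : F₀, b ≠ k • a) (s t : F)
    (h : s • incV a + t • incV b = 0) : s = 0 ∧ t = 0 := by
  rcases eq_or_ne t 0 with rfl | ht
  · rw [zero_smul, add_zero, smul_eq_zero] at h
    exact ⟨h.resolve_right (fun h' => ha (incV_injective (h'.trans incV_zero.symm))), rfl⟩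
  exfalso
  obtain ⟨x, hx⟩ := Function.ne_iff.mp ha
  refine hind (b x / a x) (funext fun i => Subtype.ext ?_)
  have e1 := congrFun h x
  have e2 := congrFun h i
  simp only [Pi.add_apply, Pi.smul_apply, smul_eq_mul, Pi.zero_apply, incV] at e1 e2
  have hax : (a x : F) ≠ 0 := fun h' => hx (Subtype.ext h')
  change (b i : F) = ((b x / a x : F₀) : F) * (a i : F)
  push_cast
  rw [div_mul_eq_mul_div, eq_div_iff hax]
  refine mul_left_cancel₀ ht ?_
  linear_combination (a x : F) * e2 - (a i : F) * e1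

/-- An isotropic rational vector with prescribed products. -/
theorem OddRat.exists_iso_prescribed {a b : Fin n → F} (ha : IsRatVec F₀ a) (hb : IsRatVec F₀ b)
    (hind : ∀ s t : F, s • a + t • b = 0 → s = 0 ∧ t = 0) {A B : F} (hA : A ∈ F₀) (hB : B ∈ F₀) :
    ∃ z, IsRatVec F₀ z ∧ pullForm n q P z z = 0 ∧ pullForm n q P z a = A ∧ pullForm n q P z b = B := by
  obtain ⟨a', rfl⟩ := exists_incV ha
  obtain ⟨b', rfl⟩ := exists_incV hb
  have dual : ∀ u w : Fin n → F₀, (∀ s t : F, s • incV u + t • incV w = 0 → s = 0 ∧ t = 0) →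
      ∃ p, H.form₀ p u = 1 ∧ H.form₀ p w = 0 := by
    intro u w h
    obtain ⟨φ, hφ1, hφ2⟩ := exists_functional (S := Submodule.span F₀ {w}) (x := u) fun hm => by
      obtain ⟨k, hk⟩ := Submodule.mem_span_singleton.mp hm
      exact one_ne_zero (h 1 (-(k : F)) (by rw [← hk, incV_smul, one_smul, neg_smul, add_neg_cancel])).1
    obtain ⟨p, hp⟩ := fl_surjective H.herm₀ φ
    refine ⟨p, ?_, ?_⟩
    · rw [H.herm₀.herm, ← fl_apply H.herm₀, hp, hφ1, map_one]
    · rw [H.herm₀.herm, ← fl_apply H.herm₀, hp, LinearMap.mem_ker.mp (hφ2 (Submodule.mem_span_singleton_self w)),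
        map_zero]
  obtain ⟨p, hpa, hpb⟩ := dual a' b' hind
  obtain ⟨s, hsb, hsa⟩ := dual b' a' (fun u t h => (hind t u (by rw [add_comm]; exact h)).symm)
  set x₀ := incV ((⟨A, hA⟩ : F₀) • p + (⟨B, hB⟩ : F₀) • s) with hx₀
  have ea : pullForm n q P x₀ (incV a') = A := by
    rw [hx₀, ← H.coe_form₀, H.herm₀.add_left, H.herm₀.smul_left, H.herm₀.smul_left, hpa, hsa, mul_one, mul_zero,
      add_zero]
  have eb : pullForm n q P x₀ (incV b') = B := by
    rw [hx₀, ← H.coe_form₀, H.herm₀.add_left, H.herm₀.smul_left, H.herm₀.smul_left, hpb, hsb, mul_zero, mul_one,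
      zero_add]
  obtain ⟨e, e', he, he', oe, oe', hee, he'e', hee', he'e⟩ := H.exists_pair (show 3 ≤ 5 by norm_num)
    ![incV a', incV b', x₀] (fun i => by fin_cases i <;> exact incV_rat _)
  obtain ⟨μ, hμ⟩ := exists_trace H.herm₀ (a := (⟨- pullForm n q P x₀ x₀,
    neg_mem (H.rat _ _ (incV_rat _) (incV_rat _))⟩ : F₀)) (Subtype.ext (by
      rw [H.coe_sigma₀, map_neg, sigma_apply H.herm]))
  have hμ' : (μ : F) + frobQ hF (μ : F) = - pullForm n q P x₀ x₀ := congrArg Subtype.val hμ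
  have a0 := oe 0; have a1 := oe 1; have a2 := oe 2
  have b0 := oe' 0; have b1 := oe' 1; have b2 := oe' 2
  simp at a0 a1 a2 b0 b1 b2
  refine ⟨x₀ + e + (μ : F) • e', isRat_add (isRat_add (incV_rat _) he) (isRat_smul μ.2 he'), ?_, ?_, ?_⟩
  · simp only [H.herm.add_left, add_right H.herm, H.herm.smul_left, smul_right H.herm, a2, b2,
      (eq_zero_comm H.herm).mp a2, (eq_zero_comm H.herm).mp b2, hee, he'e', hee', he'e]
    linear_combination hμ'
  · rw [H.herm.add_left, H.herm.add_left, H.herm.smul_left, ea, a0, b0]; ring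
  · rw [H.herm.add_left, H.herm.add_left, H.herm.smul_left, eb, a1, b1]; ring

/-- Two independent rational vectors combine to a rational isotropic vector. -/
theorem OddRat.iso_of_two {U : Submodule F (Fin n → F)} {a b : Fin n → F} (ha : IsRatVec F₀ a) (hb : IsRatVec F₀ b)
    (haU : a ∈ U) (hbU : b ∈ U) (hind : ∀ s t : F, s • a + t • b = 0 → s = 0 ∧ t = 0) :
    ∃ u ∈ U, IsRatVec F₀ u ∧ u ≠ 0 ∧ pullForm n q P u u = 0 := by
  have ha0 : a ≠ 0 := fun h => one_ne_zero (hind 1 0 (by rw [h, smul_zero, zero_smul, add_zero])).1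
  by_cases hfa : pullForm n q P a a = 0
  · exact ⟨a, haU, ha, ha0, hfa⟩
  set t := pullForm n q P b a / pullForm n q P a a with ht
  have htF : t ∈ F₀ := div_mem (H.rat _ _ hb ha) (H.rat _ _ ha ha)
  set b' := b - t • a with hb'
  have hb'r : IsRatVec F₀ b' := isRat_sub hb (isRat_smul htF ha)
  have hb'U : b' ∈ U := U.sub_mem hbU (U.smul_mem _ haU)
  have hb'0 : b' ≠ 0 := fun h => one_ne_zero (hind (-t) 1 (by
    rw [one_smul, neg_smul, add_comm, ← sub_eq_add_neg]; exact h)).2
  have hba : pullForm n q P b' a = 0 := by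
    rw [hb', sub_left H.herm, H.herm.smul_left, ht, div_mul_cancel₀ _ hfa, sub_self]
  by_cases hfb : pullForm n q P b' b' = 0
  · exact ⟨b', hb'U, hb'r, hb'0, hfb⟩
  obtain ⟨l, hl⟩ := exists_norm H.herm₀ (a := (⟨- pullForm n q P a a / pullForm n q P b' b',
    div_mem (neg_mem (H.rat _ _ ha ha)) (H.rat _ _ hb'r hb'r)⟩ : F₀)) (Subtype.ext (by
      rw [H.coe_sigma₀, map_div₀, map_neg, sigma_apply H.herm, sigma_apply H.herm]))
  have hl' : (l : F) * frobQ hF (l : F) = - pullForm n q P a a / pullForm n q P b' b' := congrArg Subtype.val hl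
  refine ⟨a + (l : F) • b', U.add_mem haU (U.smul_mem _ hb'U), isRat_add ha (isRat_smul l.2 hb'r), fun h => ?_, ?_⟩
  · have : pullForm n q P (a + (l : F) • b') a = 0 := by rw [h, zero_left H.herm]
    rw [H.herm.add_left, H.herm.smul_left, hba, mul_zero, add_zero] at this
    exact hfa this
  · clear_value b'
    rw [H.herm.add_left, add_right H.herm, add_right H.herm, H.herm.smul_left, H.herm.smul_left, smul_right H.herm,
      smul_right H.herm, hba, (eq_zero_comm H.herm).mp hba, ← mul_assoc, hl', div_mul_cancel₀ _ hfb]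
    ring

/-- Rational transvections. -/
theorem OddRat.uT_rat {u : Fin n → F} (hu : IsRatVec F₀ u) (huu : pullForm n q P u u = 0) {d : F}
    (hdF : d ∈ F₀) (hd : frobQ hF d = -d) :
    uT H.herm huu d ∈ subGroupF (Fin n) F₀ ⊓ isoSL (pullForm n q P) := by
  haveI : Nonempty (Fin n) := ⟨⟨0, by have := H.hn; omega⟩⟩
  refine ⟨mem_subGroupF.mpr ⟨1, one_ne_zero, fun a b => ?_⟩, fun x y => uT_iso H.herm huu hd x y,
    transGL_mem_sl _ _ _⟩
  have h := congrFun (uT_mulVec H.herm huu d (Pi.single b 1)) a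
  rw [Matrix.mulVec_single_one, Matrix.col_apply] at h
  rw [one_mul, h]
  exact isRat_add (isRat_single b) (isRat_smul (mul_mem hdF (H.rat _ _ (isRat_single b) hu)) hu) a

/-- Rational Siegel elements. -/
theorem OddRat.eich_rat {x z : Fin n → F} (hx : IsRatVec F₀ x) (hz : IsRatVec F₀ z)
    (hzz : pullForm n q P z z = 0) (hxz : pullForm n q P x z = 0) :
    ∃ γ, γ ∈ F₀ ∧ eich H.herm hzz hxz γ ∈ subGroupF (Fin n) F₀ ⊓ isoSL (pullForm n q P) := by
  haveI : Nonempty (Fin n) := ⟨⟨0, by have := H.hn; omega⟩⟩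
  obtain ⟨μ, hμ⟩ := exists_trace H.herm₀ (a := (⟨- pullForm n q P x x, neg_mem (H.rat _ _ hx hx)⟩ : F₀))
    (Subtype.ext (by rw [H.coe_sigma₀, map_neg, sigma_apply H.herm]))
  have hμ' : (μ : F) + frobQ hF (μ : F) = - pullForm n q P x x := congrArg Subtype.val hμ
  refine ⟨(μ : F), μ.2, mem_subGroupF.mpr ⟨1, one_ne_zero, fun a b => ?_⟩,
    fun u v => eich_iso H.herm hzz hxz (by linear_combination hμ') u v, eich_mem_sl H.herm hzz hxz _⟩
  have h := congrFun (eich_mulVec H.herm hzz hxz (μ : F) (Pi.single b 1)) a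
  rw [Matrix.mulVec_single_one, Matrix.col_apply] at h
  rw [one_mul, h]
  exact isRat_add (isRat_sub (isRat_single b) (isRat_smul (H.rat _ _ (isRat_single b) hx) hz))
    (isRat_smul (H.rat _ _ (isRat_single b) hz) (isRat_add hx (isRat_smul μ.2 hz))) a

/-- Rational elements are transitive on non-zero rational isotropic vectors. -/
theorem OddRat.move {a b : Fin n → F} (ha : IsRatVec F₀ a) (hb : IsRatVec F₀ b) (haa : pullForm n q P a a = 0)
    (hbb : pullForm n q P b b = 0) (ha0 : a ≠ 0) (hb0 : b ≠ 0) :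
    ∃ g ∈ subGroupF (Fin n) F₀ ⊓ isoSL (pullForm n q P), (g : Mat) *ᵥ a = b := by
  obtain ⟨ζ, hζF, hζ0, hζ⟩ := H.exists_skew₀
  have step : ∀ a b, IsRatVec F₀ a → IsRatVec F₀ b → pullForm n q P a a = 0 → pullForm n q P b b = 0 →
      pullForm n q P a b ≠ 0 → frobQ hF (pullForm n q P a b) = - pullForm n q P a b →
      ∃ g ∈ subGroupF (Fin n) F₀ ⊓ isoSL (pullForm n q P), (g : Mat) *ᵥ a = b := by
    intro a b ha hb haa hbb hne hsk
    have hba : pullForm n q P b a = - pullForm n q P a b := by rw [← hsk, sigma_apply H.herm]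
    have hiso : pullForm n q P (b - a) (b - a) = 0 := by
      rw [sub_left H.herm, sub_right H.herm, sub_right H.herm, haa, hbb, hba]; ring
    refine ⟨_, H.uT_rat (isRat_sub hb ha) hiso (d := (pullForm n q P a b)⁻¹) (inv_mem (H.rat _ _ ha hb))
      (by rw [map_inv₀, hsk, inv_neg]), ?_⟩
    rw [uT_mulVec, sub_right H.herm, haa, sub_zero, inv_mul_cancel₀ hne, one_smul, add_sub_cancel]
  have indep_case : ∀ a b, IsRatVec F₀ a → IsRatVec F₀ b → pullForm n q P a a = 0 → pullForm n q P b b = 0 →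
      (∀ s t : F, s • a + t • b = 0 → s = 0 ∧ t = 0) →
      ∃ g ∈ subGroupF (Fin n) F₀ ⊓ isoSL (pullForm n q P), (g : Mat) *ᵥ a = b := by
    intro a b ha hb haa hbb hind
    obtain ⟨z, hz, hzz, hza, hzb⟩ := H.exists_iso_prescribed ha hb hind hζF hζF
    have haz : pullForm n q P a z = -ζ := by rw [H.herm.herm, hza, hζ]
    obtain ⟨g₁, hg₁, e₁⟩ := step a z ha hz haa hzz (by rw [haz]; exact neg_ne_zero.mpr hζ0)
      (by rw [haz, map_neg, hζ])
    obtain ⟨g₂, hg₂, e₂⟩ := step z b hz hb hzz hbb (by rw [hzb]; exact hζ0) (by rw [hzb, hζ])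
    exact ⟨g₂ * g₁, Subgroup.mul_mem _ hg₂ hg₁, by rw [Units.val_mul, ← Matrix.mulVec_mulVec, e₁, e₂]⟩
  obtain ⟨c, c', hc, hc', oc, oc', hcc, hc'c', hcc', hc'c⟩ := H.exists_pair (show 2 ≤ 5 by norm_num) ![a, b]
    (fun i => by fin_cases i <;> assumption)
  have hind : ∀ w : Fin n → F, w ≠ 0 → pullForm n q P c' w = 0 → ∀ s t : F, s • w + t • c = 0 → s = 0 ∧ t = 0 :=
    fun w hw hcw s t h => by
    have := congrArg (fun v => pullForm n q P v c') h
    simp only [H.herm.add_left, H.herm.smul_left, (eq_zero_comm H.herm).mp hcw, hcc', mul_zero, mul_one, zero_add,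
      zero_left H.herm] at this
    exact ⟨(smul_eq_zero.mp (by rwa [this, zero_smul, add_zero] at h)).resolve_right hw, this⟩
  obtain ⟨g₁, hg₁, e₁⟩ := indep_case a c ha hc haa hcc (hind a ha0 (by simpa using oc' 0))
  obtain ⟨g₂, hg₂, e₂⟩ := indep_case c b hc hb hcc hbb
    (fun s t h => (hind b hb0 (by simpa using oc' 1) t s (by rw [add_comm]; exact h)).symm)
  exact ⟨g₂ * g₁, Subgroup.mul_mem _ hg₂ hg₁, by rw [Units.val_mul, ← Matrix.mulVec_mulVec, e₁, e₂]⟩

end Cfsg.Agent.H98.Herm
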