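import Cfsg.Agent.H98.USubOddScalar

set_option autoImplicit false
set_option linter.unusedSectionVars false

/-!
Without new scalars, an element of an overgroup mapping some rational isotropic vector orthogonally to another one
is in the subfield subgroup.
-/

namespace Cfsg.Agent.H98.Herm

open scoped Matrix

variable {F : Type*} [Field F] [Fintype F] {q n : ℕ}

local notation "Mat" => Matrix (Fin n) (Fin n) F

/-- Proportional to a rational vector. -/
def RatLine {ι : Type} {K : Type*} [Field K] (F₀ : Subfield K) (v : ι → K) : Prop :=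
  ∃ (k : K) (r : ι → K), IsRatVec F₀ r ∧ v = k • r

variable {hF : Fintype.card F = q ^ 2} {F₀ : Subfield F} {r : ℕ} {P : GL (Fin n) F} (H : OddRat hF F₀ r P)
include H

/-- An element of the subfield not fixed by the involution. -/
theorem OddRat.mem_of_diff {t : F} (h : ∀ a, a ∈ F₀ → t * frobQ hF a - a * frobQ hF t ∈ F₀) : t ∈ F₀ := by
  obtain ⟨α, hα, hne⟩ := H.sigma_ne
  have h1 : t - frobQ hF t ∈ F₀ := by simpa using h 1 (one_mem _)
  have h2 := sub_mem (h α hα) (mul_mem hα h1)
  rw [show t * frobQ hF α - α * frobQ hF t - α * (t - frobQ hF t) = t * (frobQ hF α - α) by ring] at h2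
  have := mul_mem h2 (inv_mem (sub_mem (H.sigma_mem hα) hα))
  rwa [mul_assoc, mul_inv_cancel₀ (sub_ne_zero.mpr hne), mul_one] at this

/-- A skew element outside the subfield. -/
theorem OddRat.exists_skew_new : ∃ d, frobQ hF d = -d ∧ d ∉ F₀ := by
  by_contra hc
  push Not at hc
  have hall : ∀ t : F, t ∈ F₀ := fun t => H.mem_of_diff fun a _ => hc _ (by
    rw [map_sub, map_mul, map_mul, H.herm.involutive, H.herm.involutive]; ring)
  haveI := Fintype.ofFinite F₀
  have h1 : Fintype.card F ≤ Fintype.card F₀ :=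
    Fintype.card_le_of_injective (fun t => (⟨t, hall t⟩ : F₀)) fun a b h => congrArg Subtype.val h
  rw [H.card, Nat.card_eq_fintype_card] at h1
  have h2 : Fintype.card F₀ ^ 1 < Fintype.card F₀ ^ r :=
    Nat.pow_lt_pow_right Fintype.one_lt_card H.prime.one_lt
  rw [pow_one] at h2
  omega

/-- Rationality of the ratio of two rational vectors with rational combination. -/
theorem OddRat.ratio {a b w : Fin n → F} (ha : IsRatVec F₀ a) (hb : IsRatVec F₀ b) (hw : IsRatVec F₀ w)
    (hind : ∀ s t : F, s • a + t • b = 0 → s = 0 ∧ t = 0) {k L : F} (h : a + k • b = L • w) : k ∈ F₀ := by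
  obtain ⟨p, hp, -, pa, pb⟩ := H.exists_iso_prescribed ha hb hind (one_mem F₀) (zero_mem F₀)
  obtain ⟨p', hp', -, pa', pb'⟩ := H.exists_iso_prescribed ha hb hind (zero_mem F₀) (one_mem F₀)
  have e1 := congrArg (fun v => pullForm n q P v p) h
  have e2 := congrArg (fun v => pullForm n q P v p') h
  simp only [H.herm.add_left, H.herm.smul_left] at e1 e2
  rw [H.herm.herm a p, H.herm.herm b p, pa, pb, map_one, map_zero, mul_zero, add_zero] at e1
  rw [H.herm.herm a p', H.herm.herm b p', pa', pb', map_one, map_zero, mul_one, zero_add] at e2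
  have hL : L ∈ F₀ := by
    rw [eq_inv_of_mul_eq_one_left e1.symm]; exact inv_mem (H.rat _ _ hw hp)
  rw [e2]; exact mul_mem hL (H.rat _ _ hw hp')

variable {M : Subgroup (GL (Fin n) F)} (hle : subGroupF (Fin n) F₀ ⊓ isoSL (pullForm n q P) ≤ M)
  (hsu : M ≤ isoSL (pullForm n q P))
  (hns : ∀ u, IsRatVec F₀ u → u ≠ 0 → ∀ h : pullForm n q P u u = 0, ∀ d, frobQ hF d = -d →
    uT H.herm h d ∈ M → d ∈ F₀)
include hle hsu hns

/-- Siegel elements with rational centre have rational parameters. -/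
theorem OddRat.siegel_param {z X : Fin n → F} (hz : IsRatVec F₀ z) (hz0 : z ≠ 0) (hzz : pullForm n q P z z = 0)
    (hXz : pullForm n q P X z = 0) {γ : F} (hmem : eich H.herm hzz hXz γ ∈ M) {x' : Fin n → F}
    (hx' : IsRatVec F₀ x') (hx'z : pullForm n q P x' z = 0) : pullForm n q P X x' ∈ F₀ := by
  refine H.mem_of_diff fun a ha => ?_
  have haz : pullForm n q P (a • x') z = 0 := by rw [H.herm.smul_left, hx'z, mul_zero]
  obtain ⟨μ, hμ⟩ := exists_trace H.herm₀ (a := (⟨- pullForm n q P (a • x') (a • x'),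
    neg_mem (H.rat _ _ (isRat_smul ha hx') (isRat_smul ha hx'))⟩ : F₀)) (Subtype.ext (by
      rw [H.coe_sigma₀, map_neg, sigma_apply H.herm]))
  have hμ' : (μ : F) + frobQ hF (μ : F) = - pullForm n q P (a • x') (a • x') := congrArg Subtype.val hμ
  have h' := hle (H.eich_rat_of (isRat_smul ha hx') hz hzz haz μ.2 (by linear_combination hμ'))
  have h1 := M.mul_mem (M.mul_mem hmem h') (M.inv_mem (M.mul_mem h' hmem))
  rw [eich_comm' H.herm hzz hXz haz, mul_inv_cancel_right] at h1
  have h2 := hns z hz hz0 hzz _ (by rw [map_sub, sigma_apply H.herm, sigma_apply H.herm, neg_sub]) h1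
  rw [smul_right H.herm, H.herm.smul_left, H.herm.herm x' X] at h2
  rwa [mul_comm (frobQ hF a)] at h2

/-- An isotropic centre orthogonal to a rational isotropic vector is proportional to a rational vector. -/
theorem OddRat.centre_line {v z : Fin n → F} (hvv : pullForm n q P v v = 0) {d : F} (hdF : d ∈ F₀) (hd0 : d ≠ 0)
    (hd : frobQ hF d = -d) (hmem : uT H.herm hvv d ∈ M) (hz : IsRatVec F₀ z) (hz0 : z ≠ 0)
    (hzz : pullForm n q P z z = 0) (hzv : pullForm n q P z v = 0) : RatLine F₀ v := by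
  classical
  obtain ⟨z', hz', -, hzz', hz'z⟩ := H.partner hz hzz hz0
  have hvz := (eq_zero_comm H.herm).mp hzv
  -- a vector orthogonal to the rational perp of `z`
  have hperp : ∀ w : Fin n → F, (∀ x, IsRatVec F₀ x → pullForm n q P x z = 0 → pullForm n q P x w = 0) →
      w = pullForm n q P w z' • z := by
    intro w hw
    by_contra hne
    obtain ⟨x, hx, hxne⟩ := H.exists_nonorth (sub_ne_zero.mpr hne)
    refine hxne ?_
    have h1 := hw (x - pullForm n q P x z • z') (isRat_sub hx (isRat_smul (H.rat _ _ hx hz) hz'))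
      (by rw [sub_left H.herm, H.herm.smul_left, hz'z, mul_one, sub_self])
    rw [sub_left H.herm, H.herm.smul_left] at h1
    rw [sub_right H.herm, smul_right H.herm, sigma_apply H.herm]
    linear_combination h1
  by_cases hzero : ∀ x, IsRatVec F₀ x → pullForm n q P x z = 0 → pullForm n q P x v = 0
  · exact ⟨_, z, hz, hperp v hzero⟩
  push Not at hzero
  obtain ⟨x₀, hx₀, hx₀z, hx₀v⟩ := hzero
  set t := pullForm n q P x₀ v with ht
  -- conjugated Siegel elements give rational products
  have hprod : ∀ x x', IsRatVec F₀ x → IsRatVec F₀ x' → pullForm n q P x z = 0 → pullForm n q P x' z = 0 →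
      pullForm n q P x v * pullForm n q P v x' ∈ F₀ := by
    intro x x' hx hx' hxz hx'z
    obtain ⟨γ, -, hγ⟩ := H.eich_rat hx hz hzz hxz
    set s := uT H.herm hvv d
    have hs := (mem_isoSL.mp (hsu hmem)).1
    have hsz : (s : Mat) *ᵥ z = z := by rw [uT_mulVec, hzv, mul_zero, zero_smul, add_zero]
    have h1 := M.mul_mem (M.mul_mem hmem (hle hγ)) (M.inv_mem hmem)
    rw [conj_eich H.herm hs hzz hxz (by rw [hs]; exact hzz) (by rw [hs]; exact hxz)] at h1
    have hsxz : pullForm n q P ((s : Mat) *ᵥ x) z = 0 := by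
      conv_lhs => rw [← hsz]
      rw [hs, hxz]
    have h2 : eich H.herm hzz hsxz γ ∈ M := by
      convert h1 using 1
      exact gl_ext fun y => by rw [eich_mulVec, eich_mulVec, hsz]
    have h3 := H.siegel_param hle hsu hns hz hz0 hzz hsxz h2 hx' hx'z
    rw [uT_mulVec, H.herm.add_left, H.herm.smul_left] at h3
    have h4 := mul_mem (inv_mem hdF) (sub_mem h3 (H.rat _ _ hx hx'))
    rwa [add_sub_cancel_left, mul_assoc d, inv_mul_cancel_left₀ hd0] at h4
  have hvx₀ : pullForm n q P v x₀ ≠ 0 := fun h => hx₀v ((eq_zero_comm H.herm).mp h)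
  have hg : ∀ a : Fin n → F₀, H.form₀ a (fun i => ⟨z i, hz i⟩) = 0 → pullForm n q P (incV a) v / t ∈ F₀ := by
    intro a ha
    have haz : pullForm n q P (incV a) z = 0 := congrArg Subtype.val ha
    rw [← mul_div_mul_right _ _ hvx₀]
    exact div_mem (hprod _ _ (incV_rat a) hx₀ haz hx₀z) (hprod _ _ hx₀ hx₀ hx₀z hx₀z)
  let z₀ : Fin n → F₀ := fun i => ⟨z i, hz i⟩
  let φ : LinearMap.ker (fl H.herm₀ z₀) →ₗ[F₀] F₀ :=
    { toFun := fun a => ⟨pullForm n q P (incV a.1) v / t, hg a.1 a.2⟩
      map_add' := fun a b => Subtype.ext (by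
        change pullForm n q P (incV (a.1 + b.1)) v / t = _ / t + _ / t
        rw [incV_add, H.herm.add_left, add_div])
      map_smul' := fun c a => Subtype.ext (by
        change pullForm n q P (incV (c • a.1)) v / t = (c : F) * (_ / t)
        rw [incV_smul, H.herm.smul_left, mul_div_assoc]) }
  obtain ⟨ψ, hψ⟩ := LinearMap.exists_extend φ
  obtain ⟨p₀, hp₀⟩ := fl_surjective H.herm₀ ψ
  set p := incV p₀
  have hxp : ∀ x, IsRatVec F₀ x → pullForm n q P x z = 0 → pullForm n q P x p = pullForm n q P x v / t := by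
    intro x hx hxz
    obtain ⟨a, rfl⟩ := exists_incV hx
    have e := congrArg Subtype.val (LinearMap.congr_fun hψ ⟨a, Subtype.ext hxz⟩)
    rw [← hp₀] at e
    exact e
  have h0 : pullForm n q P x₀ p = 1 := by rw [hxp x₀ hx₀ hx₀z, div_self hx₀v]
  have hw := hperp (v - frobQ hF t • p) fun x hx hxz => by
    rw [sub_right H.herm, smul_right H.herm, H.herm.involutive, hxp x hx hxz, mul_div_cancel₀ _ hx₀v, sub_self]
  set k := frobQ hF t with hk
  have hk0 : k ≠ 0 := by simpa [hk] using hx₀v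
  set a := k⁻¹ * pullForm n q P (v - k • p) z' with ha
  have hve : v = k • (p + a • z) := by
    rw [smul_add, smul_smul, ha, ← mul_assoc, mul_inv_cancel₀ hk0, one_mul, ← hw, add_sub_cancel]
  clear_value a
  have hkv : pullForm n q P (k • (p + a • z)) (k • (p + a • z)) = 0 := by rw [← hve]; exact hvv
  have hmem : uT H.herm hkv d ∈ M := by
    convert hmem using 1
    exact gl_ext fun y => by rw [uT_mulVec, uT_mulVec, hve]
  refine ⟨k, p + a • z, isRat_add (incV_rat p₀) (isRat_smul ?_ hz), hve⟩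
  -- the parameter is rational
  have hpz : pullForm n q P p z = 0 := by
    rw [hve, H.herm.smul_left, H.herm.add_left, H.herm.smul_left, hzz, mul_zero, add_zero] at hvz
    exact (mul_eq_zero.mp hvz).resolve_left hk0
  have hzp := (eq_zero_comm H.herm).mp hpz
  have hs : pullForm n q P (p + a • z) (p + a • z) = 0 := by
    have hkv' := hkv
    rw [H.herm.smul_left, smul_right H.herm, mul_eq_zero, mul_eq_zero] at hkv'
    rcases hkv' with h | h | h
    · exact absurd h hk0
    · exact absurd h (by simpa using hk0)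
    · exact h
  have hpp : pullForm n q P p p = 0 := by
    simpa [H.herm.add_left, add_right H.herm, H.herm.smul_left, smul_right H.herm, hzz, hpz, hzp] using hs
  have haa : pullForm n q P (a • z) (a • z) = 0 := by rw [H.herm.smul_left, smul_right H.herm, hzz, mul_zero, mul_zero]
  have hN : k * frobQ hF k ∈ F₀ := by
    have := hprod x₀ x₀ hx₀ hx₀ hx₀z hx₀z
    rw [hk, H.herm.involutive, sigma_apply H.herm, mul_comm]
    exact this
  set d' := k * frobQ hF k * d with hd'
  have hd'F : d' ∈ F₀ := mul_mem hN hdF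
  have hd's : frobQ hF d' = -d' := by rw [hd', map_mul, map_mul, hd, H.herm.involutive]; ring
  rw [uT_smul H.herm hs] at hmem
  rw [← hd'] at hmem
  have hs' : pullForm n q P (a • z + p) (a • z + p) = 0 := by rw [add_comm]; exact hs
  have hmem' : uT H.herm hs' d' ∈ M := by
    convert hmem using 1
    exact gl_ext fun y => by rw [uT_mulVec, uT_mulVec, add_comm (a • z)]
  have hzp' : pullForm n q P (a • z) p = 0 := by rw [H.herm.smul_left, hzp, mul_zero]
  have hdp : pullForm n q P (d' • p) (a • z) = 0 := by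
    rw [H.herm.smul_left, (eq_zero_comm H.herm).mp hzp', mul_zero]
  have hX : pullForm n q P (frobQ hF a • (d' • p)) z = 0 := by
    rw [H.herm.smul_left, H.herm.smul_left, hpz, mul_zero, mul_zero]
  rw [uT_add_eich H.herm haa hpp hzp' hd's hdp hs', eich_smul_centre H.herm hzz haa hdp hX] at hmem'
  -- remove the rational transvection, which commutes with the rest
  have hcomm : uT H.herm haa d' * uT H.herm hpp d' = uT H.herm hpp d' * uT H.herm haa d' := by
    refine gl_ext fun y => ?_
    simp only [Units.val_mul, ← Matrix.mulVec_mulVec, uT_mulVec, H.herm.add_left, H.herm.smul_left,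
      smul_right H.herm, hzp, hpz, mul_zero, add_zero]
    module
  rw [hcomm, mul_assoc] at hmem'
  have h5 := M.mul_mem (M.inv_mem (hle (H.uT_rat (incV_rat p₀) hpp hd'F hd's))) hmem'
  rw [inv_mul_cancel_left, uT_smul H.herm hzz a d' haa, uT_mul_eich H.herm hzz hX] at h5
  have h6 := H.siegel_param hle hsu hns hz hz0 hzz hX h5 hx₀ hx₀z
  rw [H.herm.smul_left, H.herm.smul_left, H.herm.herm p x₀, h0, map_one, mul_one] at h6
  have hd'0 : d' ≠ 0 := mul_ne_zero (mul_ne_zero hk0 (by simpa using hk0)) hd0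
  have h7 := H.sigma_mem (mul_mem h6 (inv_mem hd'F))
  rwa [mul_assoc, mul_inv_cancel₀ hd'0, mul_one, H.herm.involutive] at h7

/-- An element sending a rational isotropic vector orthogonally to another one is in the subfield subgroup. -/
theorem OddRat.orth_mem {y : GL (Fin n) F} (hy : y ∈ M) {u u' : Fin n → F} (hu : IsRatVec F₀ u) (hu0 : u ≠ 0)
    (huu : pullForm n q P u u = 0) (hu' : IsRatVec F₀ u') (hu'0 : u' ≠ 0) (hu'u' : pullForm n q P u' u' = 0)
    (horth : pullForm n q P u' ((y : Mat) *ᵥ u) = 0) : y ∈ subGroupF (Fin n) F₀ := by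
  haveI : Nonempty (Fin n) := ⟨⟨0, by have := H.hn; omega⟩⟩
  obtain ⟨ζ, hζF, hζ0, hζ⟩ := H.exists_skew₀
  have hiso := (mem_isoSL.mp (hsu hy)).1
  have hne : ∀ v : Fin n → F, v ≠ 0 → (y : Mat) *ᵥ v ≠ 0 := fun v hv h0 => hv (gl_mulVec_injective y (by
    change (y : Mat) *ᵥ v = (y : Mat) *ᵥ 0
    rw [h0, Matrix.mulVec_zero]))
  have base : ∀ w, IsRatVec F₀ w → w ≠ 0 → pullForm n q P w w = 0 →
      ∀ z, IsRatVec F₀ z → z ≠ 0 → pullForm n q P z z = 0 → pullForm n q P z ((y : Mat) *ᵥ w) = 0 →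
      ∃ (k : F) (r : Fin n → F), IsRatVec F₀ r ∧ k ≠ 0 ∧ r ≠ 0 ∧ pullForm n q P r r = 0 ∧
        (y : Mat) *ᵥ w = k • r := by
    intro w hw hw0 hww z hz hz0 hzz ho
    have hvv : pullForm n q P ((y : Mat) *ᵥ w) ((y : Mat) *ᵥ w) = 0 := by rw [hiso, hww]
    have h1 := M.mul_mem (M.mul_mem hy (hle (H.uT_rat hw hww hζF hζ))) (M.inv_mem hy)
    rw [conj_uT H.herm hiso hww ζ hvv] at h1
    obtain ⟨k, rr, hr, e⟩ := H.centre_line hle hsu hns hvv hζF hζ0 hζ h1 hz hz0 hzz ho
    have hk : k ≠ 0 := fun h => hne w hw0 (by rw [e, h, zero_smul])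
    refine ⟨k, rr, hr, hk, fun h => hne w hw0 (by rw [e, h, smul_zero]), ?_, e⟩
    rw [e, H.herm.smul_left, smul_right H.herm] at hvv
    simpa [hk] using hvv
  have step : ∀ z, (∃ (k : F) (r : Fin n → F), IsRatVec F₀ r ∧ k ≠ 0 ∧ r ≠ 0 ∧ pullForm n q P r r = 0 ∧
        (y : Mat) *ᵥ z = k • r) → ∀ w, IsRatVec F₀ w → w ≠ 0 → pullForm n q P w w = 0 →
      pullForm n q P z w = 0 →
      ∃ (k : F) (r : Fin n → F), IsRatVec F₀ r ∧ k ≠ 0 ∧ r ≠ 0 ∧ pullForm n q P r r = 0 ∧
        (y : Mat) *ᵥ w = k • r := by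
    rintro z ⟨k, rr, hr, hk, hr0, hrr, e⟩ w hw hw0 hww ho
    refine base w hw hw0 hww rr hr hr0 hrr ?_
    have := hiso z w
    rw [e, H.herm.smul_left, ho] at this
    exact (mul_eq_zero.mp this).resolve_left hk
  have hu1 := base u hu hu0 huu u' hu' hu'0 hu'u' horth
  have hline : ∀ w, IsRatVec F₀ w → pullForm n q P w w = 0 → w ≠ 0 →
      ∃ (k : F) (r : Fin n → F), IsRatVec F₀ r ∧ k ≠ 0 ∧ r ≠ 0 ∧ pullForm n q P r r = 0 ∧
        (y : Mat) *ᵥ w = k • r := by
    intro w hw hww hw0
    obtain ⟨z, z', hz, -, oz, -, hzz, -, hzz', -⟩ := H.exists_pair (show 2 ≤ 5 by norm_num) ![u, w]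
      (fun i => by fin_cases i <;> assumption)
    have o1 : pullForm n q P z u = 0 := by simpa using oz 0
    have o2 : pullForm n q P z w = 0 := by simpa using oz 1
    have hz0 : z ≠ 0 := fun h => by rw [h, zero_left H.herm] at hzz'; exact zero_ne_one hzz'
    exact step z (step u hu1 z hz hz0 hzz ((eq_zero_comm H.herm).mp o1)) w hw hw0 hww o2
  have hsum : ∀ a b k l ra rb, IsRatVec F₀ a → IsRatVec F₀ b → pullForm n q P a a = 0 → pullForm n q P b b = 0 →
      pullForm n q P a b = 0 → (∀ s t : F, s • a + t • b = 0 → s = 0 ∧ t = 0) →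
      IsRatVec F₀ ra → IsRatVec F₀ rb → k ≠ 0 → l ≠ 0 → (y : Mat) *ᵥ a = k • ra → (y : Mat) *ᵥ b = l • rb →
      l / k ∈ F₀ := by
    intro a b k l ra rb ha hb haa hbb hab hind hra hrb hk hl ea eb
    have hiso' : pullForm n q P (a + b) (a + b) = 0 := by
      rw [H.herm.add_left, add_right H.herm, add_right H.herm, haa, hbb, hab, (eq_zero_comm H.herm).mp hab]; ring
    have hne' : a + b ≠ 0 := fun h => one_ne_zero (hind 1 1 (by rw [one_smul, one_smul]; exact h)).1
    obtain ⟨m', r', hr', -, -, -, e'⟩ := hline (a + b) (isRat_add ha hb) hiso' hne'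
    rw [Matrix.mulVec_add, ea, eb] at e'
    refine H.ratio hra hrb hr' (fun s t hst => ?_) (k := l / k) (L := m' / k) ?_
    · have : (y : Mat) *ᵥ ((s / k) • a + (t / l) • b) = (y : Mat) *ᵥ 0 := by
        rw [Matrix.mulVec_add, Matrix.mulVec_smul, Matrix.mulVec_smul, ea, eb, smul_smul, smul_smul,
          div_mul_cancel₀ _ hk, div_mul_cancel₀ _ hl, hst, Matrix.mulVec_zero]
      obtain ⟨h1, h2⟩ := hind _ _ (gl_mulVec_injective y this)
      exact ⟨(div_eq_zero_iff.mp h1).resolve_right hk, (div_eq_zero_iff.mp h2).resolve_right hl⟩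
    · have := congrArg (fun v => k⁻¹ • v) e'
      simp only [smul_add, smul_smul, inv_mul_cancel₀ hk, one_smul] at this
      simpa [div_eq_inv_mul] using this
  obtain ⟨c, r₁, hr₁, hc0, -, -, hyu⟩ := hu1
  have hall : ∀ z, IsRatVec F₀ z → pullForm n q P z z = 0 → IsRatVec F₀ (c⁻¹ • (y : Mat) *ᵥ z) := by
    intro z hz hzz
    rcases eq_or_ne z 0 with rfl | hz0
    · rw [Matrix.mulVec_zero, smul_zero]; exact fun i => zero_mem _
    obtain ⟨x, x', hx, hx', ox, ox', hxx, hx'x', hxx', hx'x⟩ := H.exists_pair (show 2 ≤ 5 by norm_num) ![u, z]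
      (fun i => by fin_cases i <;> assumption)
    have hx0 : x ≠ 0 := fun h => by rw [h, zero_left H.herm] at hxx'; exact zero_ne_one hxx'
    obtain ⟨cx, rx, hrx, hcx, -, -, ex⟩ := hline x hx hxx hx0
    obtain ⟨cz, rz, hrz, hcz, -, -, ez⟩ := hline z hz hzz hz0
    have hind : ∀ w : Fin n → F, w ≠ 0 → pullForm n q P x' w = 0 →
        ∀ a b : F, a • w + b • x = 0 → a = 0 ∧ b = 0 := fun w hw hxw a b hab => by
      have := congrArg (fun v => pullForm n q P v x') hab
      simp only [H.herm.add_left, H.herm.smul_left, (eq_zero_comm H.herm).mp hxw, hxx', mul_zero, mul_one, zero_add,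
        zero_left H.herm] at this
      exact ⟨(smul_eq_zero.mp (by rwa [this, zero_smul, add_zero] at hab)).resolve_right hw, this⟩
    have o1 : pullForm n q P x u = 0 := by simpa using ox 0
    have o2 : pullForm n q P x z = 0 := by simpa using ox 1
    have o1' : pullForm n q P x' u = 0 := by simpa using ox' 0
    have o2' : pullForm n q P x' z = 0 := by simpa using ox' 1
    have q1 := hsum u x c cx r₁ rx hu hx huu hxx ((eq_zero_comm H.herm).mp o1) (hind u hu0 o1') hr₁ hrx hc0 hcx
      hyu ex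
    have q2 := hsum z x cz cx rz rx hz hx hzz hxx ((eq_zero_comm H.herm).mp o2) (hind z hz0 o2') hrz hrx hcz hcx ez ex
    rw [ez, smul_smul]
    refine isRat_smul ?_ hrz
    have := mul_mem q1 (inv_mem q2)
    rwa [inv_div, div_mul_div_comm, mul_comm c cx, mul_div_mul_left _ _ hcx, div_eq_inv_mul] at this
  refine mem_subGroupF.mpr ⟨c⁻¹, inv_ne_zero hc0, fun a b => ?_⟩
  have := H.rat_span (p := fun x => IsRatVec F₀ (c⁻¹ • (y : Mat) *ᵥ x))
    (by rw [Matrix.mulVec_zero, smul_zero]; exact fun i => zero_mem _)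
    (fun x w hx hw => by rw [Matrix.mulVec_add, smul_add]; exact isRat_add hx hw)
    (fun k hk x hx => by rw [Matrix.mulVec_smul, smul_comm]; exact isRat_smul hk hx) hall (isRat_single b) a
  rwa [Pi.smul_apply, Matrix.mulVec_single_one, Matrix.col_apply, smul_eq_mul] at this

end Cfsg.Agent.H98.Herm
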